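import Cfsg.Agent.S0675
import Cfsg.Agent.S1163
import Cfsg.Agent.S1162
import Cfsg.Agent.S1155
import Cfsg.Agent.S1074
import Cfsg.Agent.ChevalleyStructure.ReeCount
import Cfsg.Prelude.Def_Classification2
import Cfsg.Agent.FastGrp
import Cfsg.Agent.Prune
set_option linter.all false

section
prune_inst 0x7f00000000000000000000000000000000000000000000000000000000000000000000000000000000000000000000000000000000000000000000000000000000000000000000000000000000000000003fffffffffffffffffffffffffffbeffbdffffffff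

-- part: H410/Basic
section
set_option linter.all false
open scoped Cfsg.Agent.FastGrp

/-!
# Simple groups acting transitively on a set of prime size: first facts (helper410)

`T` finite simple, not commutative, transitive on `Ω`, `|Ω| = p` prime:
`faithful`, `two_trans` (S0675), `card_dvd` (`2 |T| ∣ p!`), `not_sq_dvd`, `prime_le` (prime divisors are `≤ p`),
`mul_dvd` (`p (p - 1) ∣ |T|`).
-/

set_option autoImplicit false

namespace Cfsg.Agent.H410.Basic

open MulAction
open scoped commutatorElement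

/-- the standing hypotheses -/
structure Hyp (T Ω : Type*) [Group T] [MulAction T Ω] (p : ℕ) : Prop where
  fin : Finite T
  simple : IsSimpleGroup T
  nc : ∃ a b : T, a * b ≠ b * a
  prime : p.Prime
  card : Nat.card Ω = p
  trans : IsPretransitive T Ω

variable {T Ω : Type*} [Group T] [MulAction T Ω] {p : ℕ}

theorem Hyp.finite (h : Hyp T Ω p) : Finite Ω := (Nat.finite_of_card_ne_zero (by rw [h.card]; exact h.prime.ne_zero))

theorem Hyp.faithful (h : Hyp T Ω p) : FaithfulSMul T Ω := by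
  have := h.simple
  have h1 : (toPermHom T Ω).ker.Normal := inferInstance
  rcases this.eq_bot_or_eq_top_of_normal _ h1 with h2 | h2
  · constructor
    intro a b hab
    have h3 : a⁻¹ * b ∈ (toPermHom T Ω).ker := by
      rw [MonoidHom.mem_ker]
      ext x
      rw [map_mul, map_inv, Equiv.Perm.mul_apply, toPermHom_apply, toPermHom_apply, toPerm_apply,
        ← hab x, Equiv.Perm.inv_eq_iff_eq]
      rfl
    rw [h2, Subgroup.mem_bot] at h3
    exact inv_mul_eq_one.1 h3
  · exfalso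
    have := h.trans
    have := h.finite
    have hn : Nontrivial Ω := Finite.one_lt_card_iff_nontrivial.1 (by rw [h.card]; exact h.prime.one_lt)
    obtain ⟨x, y, hxy⟩ := exists_pair_ne Ω
    obtain ⟨g, hg⟩ := exists_smul_eq T x y
    have h3 : g ∈ (toPermHom T Ω).ker := h2 ▸ Subgroup.mem_top g
    rw [MonoidHom.mem_ker] at h3
    have h4 : g • x = x := by
      have := congrArg (fun σ : Equiv.Perm Ω => σ x) h3
      exact this
    exact hxy (h4.symm.trans hg)

theorem Hyp.commutator_eq_top (h : Hyp T Ω p) : commutator T = ⊤ := by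
  have := h.simple
  have h1 : (commutator T).Normal := inferInstance
  rcases this.eq_bot_or_eq_top_of_normal _ h1 with h2 | h2
  · exfalso
    obtain ⟨a, b, hab⟩ := h.nc
    apply hab
    have h3 : ⁅a, b⁆ ∈ commutator T := Subgroup.commutator_mem_commutator (Subgroup.mem_top a) (Subgroup.mem_top b)
    rw [h2, Subgroup.mem_bot, commutatorElement_eq_one_iff_mul_comm] at h3
    exact h3
  · exact h2

theorem Hyp.not_solvable (h : Hyp T Ω p) : ¬ Group.IsSolvable T := by
  intro hs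
  have := h.simple
  have h1 := h.commutator_eq_top
  have h2 := Group.IsSolvable.commutator_lt_top_of_nontrivial T
  exact h2.ne h1

/-- **2-transitivity (Burnside).** -/
theorem Hyp.two_trans (h : Hyp T Ω p) : IsMultiplyPretransitive T Ω 2 := by
  classical
  have := h.finite
  have : Fintype Ω := Fintype.ofFinite Ω
  have := h.faithful
  have := h.trans
  have hinj : Function.Injective (toPermHom T Ω) := toPerm_injective
  let G : Subgroup (Equiv.Perm Ω) := (toPermHom T Ω).range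
  let e : T ≃* G := MonoidHom.ofInjective hinj
  have hG : IsPretransitive G Ω := by
    constructor
    intro x y
    obtain ⟨g, hg⟩ := exists_smul_eq T x y
    exact ⟨e g, hg⟩
  have hp : (Fintype.card Ω).Prime := by
    rw [← Nat.card_eq_fintype_card, h.card]
    exact h.prime
  rcases S0675.result hp G with h1 | h1
  · exfalso
    apply h.not_solvable
    exact Group.isSolvable_of_isSolvable_injective (f := e.toMonoidHom) e.injective
  · rw [is_two_pretransitive_iff] at h1 ⊢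
    intro a b c d hab hcd
    obtain ⟨g, hg1, hg2⟩ := h1 hab hcd
    refine ⟨e.symm g, ?_, ?_⟩
    · rw [← hg1]
      have : e (e.symm g) = g := e.apply_symm_apply g
      conv_rhs => rw [← this]
      rfl
    · rw [← hg2]
      have : e (e.symm g) = g := e.apply_symm_apply g
      conv_rhs => rw [← this]
      rfl

theorem Hyp.card_dvd (h : Hyp T Ω p) : 2 * Nat.card T ∣ p.factorial := by
  classical
  have := h.finite
  have : Fintype Ω := Fintype.ofFinite Ω
  have := h.faithful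
  have hfin := h.fin
  have hinj : Function.Injective (toPermHom T Ω) := toPerm_injective
  have hn : Nontrivial Ω := Finite.one_lt_card_iff_nontrivial.1 (by rw [h.card]; exact h.prime.one_lt)
  have hA : ∀ g : T, toPermHom T Ω g ∈ alternatingGroup Ω := by
    intro g
    have h1 : g ∈ commutator T := by rw [h.commutator_eq_top]; trivial
    have h2 : commutator T ≤ (Equiv.Perm.sign.comp (toPermHom T Ω)).ker := by
      exact Abelianization.commutator_subset_ker _
    have h3 := h2 h1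
    rw [MonoidHom.mem_ker, MonoidHom.comp_apply] at h3
    exact Equiv.Perm.mem_alternatingGroup.2 h3
  have h1 : Nat.card T ∣ Nat.card (alternatingGroup Ω) := by
    let f : T →* alternatingGroup Ω := (toPermHom T Ω).codRestrict _ hA
    have hf : Function.Injective f := fun a b hab => hinj (congrArg Subtype.val hab)
    exact Subgroup.card_dvd_of_injective f hf
  have h2 : 2 * Nat.card (alternatingGroup Ω) = p.factorial := by
    have := two_mul_nat_card_alternatingGroup (α := Ω)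
    rw [this, Nat.card_perm, h.card]
  rw [← h2]
  exact Nat.mul_dvd_mul_left 2 h1

theorem Hyp.dvd (h : Hyp T Ω p) : p ∣ Nat.card T := by
  have := h.trans
  have := h.finite
  have hn : Nonempty Ω := (Nat.card_pos_iff.1 (by rw [h.card]; exact h.prime.pos)).1
  obtain ⟨α⟩ := hn
  rw [← h.card, ← MulAction.index_stabilizer_of_transitive T α]
  exact Subgroup.index_dvd_card _

theorem Hyp.prime_le (h : Hyp T Ω p) {q : ℕ} (hq : q.Prime) (hd : q ∣ Nat.card T) : q ≤ p :=
  (hq.dvd_factorial).1 (hd.trans ((Dvd.intro_left 2 rfl).trans h.card_dvd))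

theorem Hyp.not_sq_dvd (h : Hyp T Ω p) : ¬ p ^ 2 ∣ Nat.card T := by
  intro hd
  have h1 : p ^ 2 ∣ p.factorial := hd.trans ((Dvd.intro_left 2 rfl).trans h.card_dvd)
  obtain ⟨k, hk⟩ : ∃ k, p = k + 1 := ⟨p - 1, by have := h.prime.pos; omega⟩
  rw [hk, Nat.factorial_succ, ← hk, pow_two] at h1
  have h2 := Nat.dvd_of_mul_dvd_mul_left h.prime.pos h1
  have h3 := (h.prime.dvd_factorial).1 h2
  omega

/-- a subgroup of index `p` and the point stabilisers -/
theorem Hyp.index_stabilizer (h : Hyp T Ω p) (α : Ω) : (stabilizer T α).index = p := by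
  have := h.trans
  rw [MulAction.index_stabilizer_of_transitive T α, h.card]

theorem Hyp.five_le (h : Hyp T Ω p) : 5 ≤ p := by
  by_contra hcon
  have h1 := h.card_dvd
  have h2 := h.fin
  have hp := h.prime.two_le
  obtain ⟨a, b, hab⟩ := h.nc
  have h3 : p = 2 ∨ p = 3 ∨ p = 4 := by omega
  rcases h3 with rfl | rfl | rfl
  · have h4 : 2 * Nat.card T ∣ 2 * 1 := h1
    have h5 := Nat.dvd_one.1 (Nat.dvd_of_mul_dvd_mul_left two_pos h4)
    have := (Nat.card_eq_one_iff_unique.1 h5).1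
    exact hab (Subsingleton.elim _ _)
  · have h4 : 2 * Nat.card T ∣ 2 * 3 := h1
    have h5 := Nat.dvd_of_mul_dvd_mul_left two_pos h4
    rcases (Nat.dvd_prime Nat.prime_three).1 h5 with h6 | h6
    · have := (Nat.card_eq_one_iff_unique.1 h6).1
      exact hab (Subsingleton.elim _ _)
    · have : Fact (Nat.Prime 3) := ⟨Nat.prime_three⟩
      have hc : IsCyclic T := isCyclic_of_prime_card h6
      exact hab (isMulCommutative_iff.1 hc.isMulCommutative a b)
  · exact absurd h.prime (by norm_num)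

/-- the point stabiliser is maximal -/
theorem Hyp.eq_of_le (h : Hyp T Ω p) {α : Ω} {K : Subgroup T} (hK : stabilizer T α ≤ K) (hne : K ≠ ⊤) :
    K = stabilizer T α := by
  have h1 := h.index_stabilizer α
  have hfin := h.fin
  have h2 : K.index ∣ p := h1 ▸ Subgroup.index_dvd_of_le hK
  rcases (Nat.dvd_prime h.prime).1 h2 with h3 | h3
  · exact absurd (Subgroup.index_eq_one.1 h3) hne
  · refine (Subgroup.eq_of_le_of_card_ge hK ?_).symm
    have h4 := Subgroup.card_mul_index K
    have h5 := Subgroup.card_mul_index (stabilizer T α)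
    rw [h3] at h4
    rw [h1, ← h4] at h5
    exact le_of_eq (Nat.eq_of_mul_eq_mul_right h.prime.pos h5).symm

end Cfsg.Agent.H410.Basic
end

-- part: H410/RankOne
section
set_option linter.all false
open scoped Cfsg.Agent.FastGrp

/-!
# Simple groups of prime degree: the Suzuki groups, the small Ree groups, the Tits group (helper410)

* `le_stabilizer` : `G` simple, transitive on `Δ`, `U ⊴ G_δ` transitive on `Δ - δ`; proper overgroups of `U` fix `δ`;
* `Hyp.not_sz`, `Hyp.not_ree`, `Hyp.not_tits`.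
-/

set_option autoImplicit false
set_option linter.unusedSectionVars false

namespace Cfsg.Agent.H410.RankOne

open MulAction Cfsg.Agent.H410.Basic

/-- proper overgroups of `U` fix `δ` -/
theorem le_stabilizer {G Δ : Type*} [Group G] [hs : IsSimpleGroup G] [MulAction G Δ] {δ : Δ} {U : Subgroup G}
    (hn : ∀ g ∈ stabilizer G δ, ∀ u ∈ U, g * u * g⁻¹ ∈ U) (htr : ∀ x y, x ≠ δ → y ≠ δ → ∃ u ∈ U, u • x = y)
    (hU : U ≠ ⊥) {H : Subgroup G} (hH : U ≤ H) (hne : H ≠ ⊤) : H ≤ stabilizer G δ := by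
  by_contra hcon
  obtain ⟨k, hk, hkδ⟩ := SetLike.not_le_iff_exists.1 hcon
  rw [mem_stabilizer_iff] at hkδ
  have h1 : ∀ x : Δ, ∃ a ∈ H, a • δ = x := by
    intro x
    by_cases hx : x = δ
    · exact ⟨1, one_mem _, by rw [one_smul, hx]⟩
    · obtain ⟨u, hu, hux⟩ := htr (k • δ) x hkδ hx
      exact ⟨u * k, mul_mem (hH hu) hk, by rw [mul_smul, hux]⟩
  apply hne
  have h2 : Subgroup.normalClosure (U : Set G) ≤ H := by
    unfold Subgroup.normalClosure
    rw [Subgroup.closure_le]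
    intro x hx
    obtain ⟨u, hu, hx⟩ := Group.mem_conjugatesOfSet_iff.1 hx
    obtain ⟨g, rfl⟩ := isConj_iff.1 hx
    obtain ⟨a, ha, hag⟩ := h1 (g • δ)
    have hb : a⁻¹ * g ∈ stabilizer G δ := by
      rw [mem_stabilizer_iff, mul_smul, ← hag, inv_smul_smul]
    have h3 := hn _ hb u hu
    have h4 : g * u * g⁻¹ = a * (a⁻¹ * g * u * (a⁻¹ * g)⁻¹) * a⁻¹ := by group
    rw [h4]
    exact mul_mem (mul_mem ha (hH h3)) (inv_mem ha)
  have h3 : (Subgroup.normalClosure (U : Set G)).Normal := inferInstance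
  rcases hs.eq_bot_or_eq_top_of_normal _ h3 with h4 | h4
  · exfalso
    apply hU
    rw [eq_bot_iff, ← h4]
    exact Subgroup.subset_normalClosure
  · rwa [h4, top_le_iff] at h2

/-- the index of the normaliser divides the degree -/
theorem dvd_of_le {G : Type*} [Group G] [Finite G] {H K : Subgroup G} (h : H ≤ K) {p : ℕ} (hp : p.Prime)
    (hH : H.index = p) (hK : K ≠ ⊤) : K.index = p := by
  have h1 : K.index ∣ p := hH ▸ Subgroup.index_dvd_of_le h
  rcases (Nat.dvd_prime hp).1 h1 with h2 | h2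
  · exact absurd (Subgroup.index_eq_one.1 h2) hK
  · exact h2

variable {T Ω : Type*} [Group T] [MulAction T Ω] {p : ℕ}

/-- the action through an isomorphism -/
theorem _root_.Cfsg.Agent.H410.Basic.Hyp.of_equiv {T' : Type*} [Group T'] (e : T' ≃* T) (h : Hyp T Ω p) :
    @Hyp T' Ω _ (MulAction.compHom Ω e.toMonoidHom) p := by
  let : MulAction T' Ω := MulAction.compHom Ω e.toMonoidHom
  have hfin := h.fin
  have hs := h.simple
  have htr := h.trans
  refine ⟨Finite.of_equiv _ e.symm.toEquiv, ?_, ?_, h.prime, h.card, ?_⟩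
  · exact e.isSimpleGroup
  · obtain ⟨a, b, hab⟩ := h.nc
    refine ⟨e.symm a, e.symm b, fun h1 => hab ?_⟩
    rw [← map_mul, ← map_mul] at h1
    exact e.symm.injective h1
  · constructor
    intro x y
    obtain ⟨g, hg⟩ := exists_smul_eq T x y
    refine ⟨e.symm g, ?_⟩
    change e (e.symm g) • x = y
    rw [e.apply_symm_apply, hg]

/-- a `q`-subgroup fixes a point, `q ≠ p` -/
theorem _root_.Cfsg.Agent.H410.Basic.Hyp.exists_fix (h : Hyp T Ω p) {q : ℕ} [hq : Fact q.Prime] (hne : q ≠ p)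
    {U : Subgroup T} (hU : IsPGroup q U) : ∃ α : Ω, U ≤ stabilizer T α := by
  have := h.finite
  obtain ⟨α, hα⟩ := hU.nonempty_fixed_point_of_prime_not_dvd_card Ω (by
    rw [h.card, Nat.prime_dvd_prime_iff_eq hq.out h.prime]
    exact hne)
  exact ⟨α, fun u hu => hα ⟨u, hu⟩⟩

/-- `p ^ 2 ∣ |T|` is impossible, so `q ≠ p` if `q ^ 2 ∣ |T|` -/
theorem _root_.Cfsg.Agent.H410.Basic.Hyp.ne_of_sq (h : Hyp T Ω p) {q : ℕ} (hq : q ^ 2 ∣ Nat.card T) : q ≠ p := by
  rintro rfl
  exact h.not_sq_dvd hq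

/-- **The Suzuki groups.** -/
theorem _root_.Cfsg.Agent.H410.Basic.Hyp.not_sz (h : Hyp T Ω p) : ¬ Cfsg.Lie.IsoSuzuki T := by
  rintro ⟨F, _, _, m, hm, hF, ⟨e⟩⟩
  let : MulAction ↥(Cfsg.Lie.Sz F (2 ^ (m + 1))) Ω := MulAction.compHom Ω e.symm.toMonoidHom
  have h' : Hyp ↥(Cfsg.Lie.Sz F (2 ^ (m + 1))) Ω p := h.of_equiv e.symm
  have hfin := h'.fin
  have hs := h'.simple
  have : Fact (Nat.Prime 2) := ⟨Nat.prime_two⟩
  obtain ⟨-, S, -, hi, -, hreg⟩ := S1163.result hm hF
  obtain ⟨α, hα⟩ := h'.exists_fix (q := 2) (by have := h.five_le; omega) S.2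
  have hindex := h'.index_stabilizer α
  have hq : 2 ≤ 2 ^ (2 * m + 1) := by
    calc 2 = 2 ^ 1 := (pow_one 2).symm
      _ ≤ 2 ^ (2 * m + 1) := Nat.pow_le_pow_right two_pos (by omega)
  have hK : Subgroup.normalizer ((S : Subgroup ↥(Cfsg.Lie.Sz F (2 ^ (m + 1)))) : Set ↥(Cfsg.Lie.Sz F (2 ^ (m + 1)))) ≠ ⊤ := by
    intro h1
    rw [h1, Subgroup.index_top] at hi
    have : 0 < (2 ^ (2 * m + 1)) ^ 2 := by positivity
    omega
  have hne : stabilizer ↥(Cfsg.Lie.Sz F (2 ^ (m + 1))) α ≠ ⊤ := by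
    intro h1
    rw [h1, Subgroup.index_top] at hindex
    exact h.prime.one_lt.ne hindex
  have hst : stabilizer ↥(Cfsg.Lie.Sz F (2 ^ (m + 1)))
      ((QuotientGroup.mk 1 : ↥(Cfsg.Lie.Sz F (2 ^ (m + 1))) ⧸ Subgroup.normalizer ((S : Subgroup ↥(Cfsg.Lie.Sz F (2 ^ (m + 1)))) : Set ↥(Cfsg.Lie.Sz F (2 ^ (m + 1)))))) =
      Subgroup.normalizer ((S : Subgroup ↥(Cfsg.Lie.Sz F (2 ^ (m + 1)))) : Set ↥(Cfsg.Lie.Sz F (2 ^ (m + 1)))) :=
    MulAction.stabilizer_quotient _
  have hS : (S : Subgroup ↥(Cfsg.Lie.Sz F (2 ^ (m + 1)))) ≠ ⊥ := by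
    intro h1
    apply hK
    rw [h1]
    exact Subgroup.normalizer_eq_top_iff.2 inferInstance
  have hle := le_stabilizer (δ := (QuotientGroup.mk 1 : ↥(Cfsg.Lie.Sz F (2 ^ (m + 1))) ⧸ Subgroup.normalizer ((S : Subgroup ↥(Cfsg.Lie.Sz F (2 ^ (m + 1)))) : Set ↥(Cfsg.Lie.Sz F (2 ^ (m + 1))))))
    (U := (S : Subgroup ↥(Cfsg.Lie.Sz F (2 ^ (m + 1))))) (by
      intro g hg u hu
      rw [hst] at hg
      exact (Subgroup.mem_normalizer_iff.1 hg u).1 hu) (by
      intro x y hx hy
      obtain ⟨s, hs, -⟩ := hreg x y hx hy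
      exact ⟨s, s.2, hs⟩) hS hα hne
  rw [hst] at hle
  have h1 := dvd_of_le hle h.prime hindex hK
  rw [hi] at h1
  have h2 : 5 ∣ (2 ^ (2 * m + 1)) ^ 2 + 1 := by
    have e1 : (2 ^ (2 * m + 1)) ^ 2 = 4 * 16 ^ m := by
      rw [← pow_mul, show (2 * m + 1) * 2 = 2 + 4 * m by ring, pow_add, pow_mul]
      norm_num
    have e2 : 16 ^ m ≡ 1 ^ m [MOD 5] := Nat.ModEq.pow m (by decide)
    rw [one_pow] at e2
    have e3 : 4 * 16 ^ m + 1 ≡ 4 * 1 + 1 [MOD 5] := (e2.mul_left 4).add_right 1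
    rw [e1]
    exact (Nat.modEq_zero_iff_dvd).1 (e3.trans (by decide))
  rw [h1] at h2
  have h3 := (Nat.prime_dvd_prime_iff_eq (by norm_num) h.prime).1 h2
  have h4 : 8 ≤ 2 ^ (2 * m + 1) := by
    calc 8 = 2 ^ 3 := by norm_num
      _ ≤ 2 ^ (2 * m + 1) := Nat.pow_le_pow_right two_pos (by omega)
  nlinarith only [h1, h3, h4]

/-! ### free actions -/

theorem card_dvd_of_free {U X : Type*} [Group U] [MulAction U X] [Finite U] [Finite X]
    (hf : ∀ (u : U) (x : X), u • x = x → u = 1) : Nat.card U ∣ Nat.card X := by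
  classical
  have := Fintype.ofFinite U
  have := Fintype.ofFinite X
  have := Fintype.ofFinite (Quotient (orbitRel U X))
  have h1 := card_eq_sum_card_group_div_card_stabilizer U X
  have h2 : ∀ ω : Quotient (orbitRel U X), Fintype.card U / Fintype.card (stabilizer U ω.out) = Fintype.card U := by
    intro ω
    have : Fintype.card (stabilizer U ω.out) = 1 := by
      rw [Fintype.card_eq_one_iff]
      exact ⟨1, fun u => Subtype.ext (hf _ _ u.2)⟩
    rw [this, Nat.div_one]
  rw [Finset.sum_congr rfl fun ω _ => h2 ω, Finset.sum_const, smul_eq_mul] at h1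
  rw [Nat.card_eq_fintype_card, Nat.card_eq_fintype_card, h1]
  exact Dvd.intro_left _ rfl

/-- the action on the complement of a fixed point -/
@[reducible] def compl {U X : Type*} [Group U] [MulAction U X] (δ : X) (hδ : ∀ u : U, u • δ = δ) :
    MulAction U {x : X // x ≠ δ} where
  smul u x := ⟨u • x.1, fun h => x.2 (by rw [← inv_smul_smul u x.1, h, hδ])⟩
  one_smul x := Subtype.ext (one_smul _ _)
  mul_smul u v x := Subtype.ext (mul_smul _ _ _)

theorem card_dvd_sub_one {U X : Type*} [Group U] [MulAction U X] [Finite U] [Finite X] {δ : X}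
    (hδ : ∀ u : U, u • δ = δ) (hf : ∀ (u : U) (x : X), x ≠ δ → u • x = x → u = 1) :
    Nat.card U ∣ Nat.card X - 1 := by
  let := compl δ hδ
  have h1 : Nat.card U ∣ Nat.card {x : X // x ≠ δ} :=
    card_dvd_of_free fun u x hx => hf u x.1 x.2 (congrArg Subtype.val hx)
  have h2 : Nat.card {x : X // x ≠ δ} = Nat.card X - 1 := by
    classical
    have := Fintype.ofFinite X
    rw [Nat.card_eq_fintype_card, Nat.card_eq_fintype_card, Fintype.card_subtype_compl, Fintype.card_subtype_eq]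
  rwa [h2] at h1

theorem exists_smul_of_free {U X : Type*} [Group U] [MulAction U X] [Finite U] [Finite X] {δ : X}
    (hδ : ∀ u : U, u • δ = δ) (hf : ∀ (u : U) (x : X), x ≠ δ → u • x = x → u = 1)
    (hcard : Nat.card X ≤ Nat.card U + 1) {x y : X} (hx : x ≠ δ) (hy : y ≠ δ) : ∃ u : U, u • x = y := by
  let := compl δ hδ
  have h2 : Nat.card {x : X // x ≠ δ} ≤ Nat.card U := by
    classical
    have := Fintype.ofFinite X
    rw [Nat.card_eq_fintype_card (α := X)] at hcard
    rw [Nat.card_eq_fintype_card, Fintype.card_subtype_compl, Fintype.card_subtype_eq]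
    omega
  have hinj : Function.Injective (fun u : U => u • (⟨x, hx⟩ : {x : X // x ≠ δ})) := by
    intro u v huv
    have h3 : u • x = v • x := congrArg Subtype.val huv
    have h4 : (v⁻¹ * u) • x = x := by rw [mul_smul, h3, inv_smul_smul]
    exact (inv_mul_eq_one.1 (hf _ x hx h4)).symm
  have hbij := (Nat.bijective_iff_injective_and_card _).2 ⟨hinj, le_antisymm (Nat.card_le_card_of_injective _ hinj) h2⟩
  obtain ⟨u, hu⟩ := hbij.2 ⟨y, hy⟩
  exact ⟨u, congrArg Subtype.val hu⟩

/-! ### Sylow subgroups which meet trivially -/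

section TI

variable {G : Type*} [Group G] [Finite G] {r : ℕ} [Fact r.Prime]

theorem sylow_free (hTI : ∀ P Q : Sylow r G, P ≠ Q → (P : Subgroup G) ⊓ Q = ⊥) (P : Sylow r G)
    (u : P) (Q : Sylow r G) (hQ : Q ≠ P) (h : u • Q = Q) : u = 1 := by
  have h1 : (u : G) ∈ Subgroup.normalizer ((Q : Subgroup G) : Set G) := Sylow.smul_eq_iff_mem_normalizer.1 h
  have h2 : (u : G) ∈ (P : Subgroup G) ⊓ Q := by
    rw [← IsPGroup.inf_normalizer_sylow P.2 Q]
    exact ⟨u.2, h1⟩
  rw [hTI P Q hQ.symm, Subgroup.mem_bot] at h2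
  exact Subtype.ext h2

theorem sylow_fix (P : Sylow r G) (u : P) : u • P = P :=
  Sylow.smul_eq_iff_mem_normalizer.2 (Subgroup.le_normalizer u.2)

/-- the number of Sylow subgroups is `1` modulo their order -/
theorem card_sylow_dvd (hTI : ∀ P Q : Sylow r G, P ≠ Q → (P : Subgroup G) ⊓ Q = ⊥) (P : Sylow r G) :
    Nat.card P ∣ Nat.card (Sylow r G) - 1 :=
  card_dvd_sub_one (sylow_fix P) (sylow_free hTI P)

/-- overgroups of a Sylow subgroup -/
theorem le_normalizer_of_TI [IsSimpleGroup G] (hTI : ∀ P Q : Sylow r G, P ≠ Q → (P : Subgroup G) ⊓ Q = ⊥) (P : Sylow r G)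
    (hP : (P : Subgroup G) ≠ ⊥) (hcard : Nat.card (Sylow r G) ≤ Nat.card P + 1) {H : Subgroup G}
    (hH : (P : Subgroup G) ≤ H) (hne : H ≠ ⊤) : H ≤ Subgroup.normalizer ((P : Subgroup G) : Set G) := by
  have hst : stabilizer G P = Subgroup.normalizer ((P : Subgroup G) : Set G) := Sylow.stabilizer_eq_normalizer P
  rw [← hst]
  refine le_stabilizer (δ := P) (U := (P : Subgroup G)) ?_ ?_ hP hH hne
  · intro g hg u hu
    rw [hst] at hg
    exact (Subgroup.mem_normalizer_iff.1 hg u).1 hu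
  · intro x y hx hy
    obtain ⟨u, hu⟩ := exists_smul_of_free (sylow_fix P) (sylow_free hTI P) hcard hx hy
    exact ⟨u, u.2, hu⟩

end TI

/-- the number of Sylow subgroups of a small Ree group -/
theorem arith {q N N' : ℕ} (hq : 2 ≤ q) (h : N * N' = (q-1)*(q^3+1)) (hN : q^3 ∣ N - 1) (hN1: N ≠ 1) : N = q^3+1 := by
  obtain ⟨k, hk⟩ := hN
  obtain ⟨a, rfl⟩ : ∃ a, q = a + 2 := ⟨q - 2, by omega⟩
  have hN0 : N ≠ 0 := by
    rintro rfl
    have : 0 < (a + 2 - 1) * ((a+2)^3+1) := Nat.mul_pos (by omega) (by positivity)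
    omega
  have hN2 : N = 1 + (a+2)^3 * k := by omega
  have ha : a + 2 - 1 = a + 1 := by omega
  rw [ha, hN2] at h
  set Q := (a+2)^3 with hQ
  have hQ2 : a + 2 ≤ Q := by rw [hQ]; linarith only [Nat.zero_le (a^3), _root_.sq_nonneg (↑a : ℤ), _root_.Nat.cast_nonneg (α := ℤ) (a)]
  have hk1 : 1 ≤ k := by
    rcases Nat.eq_zero_or_pos k with rfl | h0
    · omega
    · exact h0
  -- `N' + Q k N' = (a + 1) + Q (a + 1)`
  have h1 : N' + Q * (k * N') = (a + 1) + Q * (a + 1) := by linarith only [h]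
  have h2 : k * N' = a + 1 := by
    rcases lt_trichotomy (k * N') (a + 1) with h3 | h3 | h3
    · exfalso
      -- then `N' ≥ (a+1) + Q > k N'`
      have h4 : Q * (k * N') + Q ≤ Q * (a + 1) := by
        have : Q * (k * N' + 1) ≤ Q * (a + 1) := Nat.mul_le_mul_left Q h3
        linarith only [this]
      have h5 : N' ≤ k * N' := Nat.le_mul_of_pos_left N' hk1
      omega
    · exact h3
    · exfalso
      have h4 : Q * (a + 1) + Q ≤ Q * (k * N') := by
        have : Q * (a + 1 + 1) ≤ Q * (k * N') := Nat.mul_le_mul_left Q h3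
        linarith only [this]
      omega
  have h3 : N' = a + 1 := by rw [h2] at h1; omega
  have h4 : k = 1 := by
    rw [h3] at h2
    have : 0 < a + 1 := by omega
    nlinarith only [h2]
  rw [hN2, h4]; omega

/-- **The small Ree groups.** -/
theorem _root_.Cfsg.Agent.H410.Basic.Hyp.not_ree (h : Hyp T Ω p) : ¬ Cfsg.Lie.IsoRee T := by
  rintro ⟨F, _, _, m, hm, hF, ⟨e⟩⟩
  let : MulAction ↥(Cfsg.Lie.twistedG2 F (3 ^ m)) Ω := MulAction.compHom Ω e.symm.toMonoidHom
  have h' : Hyp ↥(Cfsg.Lie.twistedG2 F (3 ^ m)) Ω p := h.of_equiv e.symm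
  have hfin := h'.fin
  have hs := h'.simple
  have : Fact (Nat.Prime 3) := ⟨Nat.prime_three⟩
  have hcard := ChevalleyStructure.ReeCount.card_twistedG2 hF
  obtain ⟨P⟩ : Nonempty (Sylow 3 ↥(Cfsg.Lie.twistedG2 F (3 ^ m))) := inferInstance
  obtain ⟨α, hα⟩ := h'.exists_fix (q := 3) (by have := h.five_le; omega) P.2
  have hindex := h'.index_stabilizer α
  have hTI : ∀ P Q : Sylow 3 ↥(Cfsg.Lie.twistedG2 F (3 ^ m)), P ≠ Q →
      (P : Subgroup ↥(Cfsg.Lie.twistedG2 F (3 ^ m))) ⊓ Q = ⊥ := fun P Q hPQ => S1155.result hm hF P Q hPQ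
  set q : ℕ := 3 ^ (2 * m + 1) with hq
  have hq27 : 27 ≤ q := by
    calc 27 = 3 ^ 3 := by norm_num
      _ ≤ 3 ^ (2 * m + 1) := Nat.pow_le_pow_right (by norm_num) (by omega)
  have h3q : 3 ∣ q := by rw [hq]; exact dvd_pow_self 3 (by omega)
  -- the order of a Sylow subgroup
  have hP : Nat.card P = q ^ 3 := by
    have h1 : Nat.card ↥(Cfsg.Lie.twistedG2 F (3 ^ m)) = 3 ^ ((2 * m + 1) * 3) * ((q - 1) * (q ^ 3 + 1)) := by
      rw [hcard, pow_mul, ← hq, mul_assoc]
    have h2 : ¬ 3 ∣ (q - 1) * (q ^ 3 + 1) := by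
      intro h3
      have hq3 : q % 3 = 0 := Nat.mod_eq_zero_of_dvd h3q
      rcases (Nat.Prime.dvd_mul Nat.prime_three).1 h3 with h4 | h4
      · omega
      · have : q ^ 3 % 3 = 0 := Nat.mod_eq_zero_of_dvd (dvd_pow h3q (by norm_num))
        omega
    have h4 := Sylow.card_eq_multiplicity P
    rw [h4, h1, Nat.factorization_mul (by positivity) (by
      intro h0
      rw [h0] at h2
      exact h2 (dvd_zero 3)), Nat.Prime.factorization_pow Nat.prime_three]
    simp only [Finsupp.coe_add, Pi.add_apply, Finsupp.single_eq_same]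
    rw [Nat.factorization_eq_zero_of_not_dvd h2, add_zero, pow_mul, ← hq]
  have hP1 : (P : Subgroup ↥(Cfsg.Lie.twistedG2 F (3 ^ m))) ≠ ⊥ := by
    intro h1
    have h2 : Nat.card P = 1 := Subgroup.card_eq_one.2 h1
    rw [hP] at h2
    have : 27 ^ 3 ≤ q ^ 3 := Nat.pow_le_pow_left hq27 3
    omega
  have hN : Subgroup.normalizer ((P : Subgroup ↥(Cfsg.Lie.twistedG2 F (3 ^ m))) : Set ↥(Cfsg.Lie.twistedG2 F (3 ^ m))) ≠ ⊤ := by
    intro h1
    rcases hs.eq_bot_or_eq_top_of_normal _ (Subgroup.normalizer_eq_top_iff.1 h1) with h2 | h2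
    · exact hP1 h2
    · have h3 : Nat.card P = Nat.card ↥(Cfsg.Lie.twistedG2 F (3 ^ m)) := by
        rw [← Subgroup.card_top (G := ↥(Cfsg.Lie.twistedG2 F (3 ^ m))), ← h2]
      rw [hP, hcard] at h3
      have h5 : q ^ 3 * 1 < q ^ 3 * ((q - 1) * (q ^ 3 + 1)) := by
        refine Nat.mul_lt_mul_of_pos_left ?_ (by positivity)
        have : 1 < q - 1 := by omega
        nlinarith only [hP, this]
      rw [mul_one, ← mul_assoc] at h5
      omega
  have hcs : Nat.card (Sylow 3 ↥(Cfsg.Lie.twistedG2 F (3 ^ m))) = q ^ 3 + 1 := by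
    have h1 : Nat.card (Sylow 3 ↥(Cfsg.Lie.twistedG2 F (3 ^ m))) = (Subgroup.normalizer
        ((P : Subgroup ↥(Cfsg.Lie.twistedG2 F (3 ^ m))) : Set ↥(Cfsg.Lie.twistedG2 F (3 ^ m)))).index :=
      Sylow.card_eq_index_normalizer P
    obtain ⟨N', hN'⟩ : Nat.card P ∣ Nat.card (Subgroup.normalizer ((P : Subgroup ↥(Cfsg.Lie.twistedG2 F (3 ^ m))) : Set ↥(Cfsg.Lie.twistedG2 F (3 ^ m)))) :=
      Subgroup.card_dvd_of_le Subgroup.le_normalizer
    have h2 := Subgroup.card_mul_index (Subgroup.normalizer ((P : Subgroup ↥(Cfsg.Lie.twistedG2 F (3 ^ m))) : Set ↥(Cfsg.Lie.twistedG2 F (3 ^ m))))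
    refine arith (N' := N') (by omega) ?_ (hP ▸ card_sylow_dvd hTI P) ?_
    · rw [h1]
      rw [hN', hcard, hP] at h2
      have h3 : 0 < q ^ 3 := by positivity
      apply Nat.eq_of_mul_eq_mul_left h3
      rw [← mul_assoc (q ^ 3) (q - 1), ← h2]
      ring
    · rw [h1]
      intro h3
      exact hN (Subgroup.index_eq_one.1 h3)
  have hne : stabilizer ↥(Cfsg.Lie.twistedG2 F (3 ^ m)) α ≠ ⊤ := by
    intro h1
    rw [h1, Subgroup.index_top] at hindex
    exact h.prime.one_lt.ne hindex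
  have hle := le_normalizer_of_TI hTI P hP1 (by rw [hcs, hP]) hα hne
  have h1 := dvd_of_le hle h.prime hindex hN
  have h2 : Nat.card (Sylow 3 ↥(Cfsg.Lie.twistedG2 F (3 ^ m))) = (Subgroup.normalizer
      ((P : Subgroup ↥(Cfsg.Lie.twistedG2 F (3 ^ m))) : Set ↥(Cfsg.Lie.twistedG2 F (3 ^ m)))).index :=
    Sylow.card_eq_index_normalizer P
  rw [h2] at hcs
  have h3 : q ^ 3 + 1 = p := hcs.symm.trans h1
  have hodd : q % 2 = 1 := by
    rw [hq, Nat.pow_mod]
    norm_num
  have h4 : 2 ∣ q ^ 3 + 1 := by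
    have : q ^ 3 % 2 = 1 := by rw [Nat.pow_mod, hodd]
    omega
  rw [h3] at h4
  have h5 := (Nat.prime_dvd_prime_iff_eq Nat.prime_two h.prime).1 h4
  have := h.five_le
  omega

/-- **The Tits group.** -/
theorem _root_.Cfsg.Agent.H410.Basic.Hyp.not_tits (h : Hyp T Ω p) : ¬ Cfsg.Lie.IsoTits T := by
  rintro ⟨e⟩
  have h1 : Nat.card T = 2 ^ 11 * 3 ^ 3 * 5 ^ 2 * 13 := by
    rw [Nat.card_congr e.toEquiv]
    exact S1074.result.2.2.2
  have h2 : 13 ≤ p := h.prime_le (by norm_num) (by rw [h1]; norm_num)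
  have h3 : p ∣ 2 ^ 11 * 3 ^ 3 * 5 ^ 2 * 13 := h1 ▸ h.dvd
  have h4 : p = 13 := by
    have h5 : p ∈ Nat.primeFactors (2 ^ 11 * 3 ^ 3 * 5 ^ 2 * 13) := by
      rw [Nat.mem_primeFactors]
      exact ⟨h.prime, h3, by norm_num⟩
    rcases h.prime.dvd_mul.1 h3 with h6 | h6
    · exfalso
      rcases h.prime.dvd_mul.1 h6 with h7 | h7
      · rcases h.prime.dvd_mul.1 h7 with h8 | h8
        · have := Nat.le_of_dvd (by norm_num) (h.prime.dvd_of_dvd_pow h8); omega
        · have := Nat.le_of_dvd (by norm_num) (h.prime.dvd_of_dvd_pow h8); omega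
      · have := Nat.le_of_dvd (by norm_num) (h.prime.dvd_of_dvd_pow h7); omega
    · have := Nat.le_of_dvd (by norm_num) h6; omega
  have h5 := h.card_dvd
  rw [h1, h4] at h5
  exact absurd h5 (by decide)

end Cfsg.Agent.H410.RankOne
end
end
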