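import Cfsg.Agent.H702.RealTable
import Cfsg.Agent.H706.RealBasic
import Cfsg.Agent.H507.GmnTwF
import Cfsg.Agent.H921.SporTits
import Cfsg.Agent.LieExceptional.SuzukiHyp
import Cfsg.Agent.OddCyclic.ClaimC.SzIso
import Cfsg.Agent.LieRecognition.ReeSetup
import Cfsg.Agent.LieRecognition.ReeFinal
import Cfsg.Agent.LieRecognition.ReeTorusTw
import Cfsg.Agent.S0324
import Cfsg.Agent.S1069
import Cfsg.Agent.S1074
import Cfsg.Agent.S1116
import Cfsg.Agent.S1158
import Cfsg.Agent.S2359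
import Cfsg.Agent.FastGrp
import Cfsg.Agent.Prune
set_option linter.all false
prune_inst 0x7f00000000000000000000000000000000000000000000000000000000000000000000000000000000000000000000000000000000000000000000000000000000000000000000000000000000000000003fffffffffffffffffffffffffffbeffbdffffffff
open scoped Cfsg.Agent.FastGrp

/-!
# Real elements of odd order of the Suzuki groups, the Ree groups and the Tits group (helper410, for S4918, S4915)

`row_sz`, `row_ree`, `row_tf4`, `row_tits` : the rows of `H702.RealTable.Rows`.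
-/

set_option autoImplicit false
set_option maxRecDepth 100000
set_option exponentiation.threshold 5000

namespace Cfsg.Agent.H410.RealTw

open Subgroup Cfsg Cfsg.Agent.H702.RealTable Cfsg.Agent.H702.RealB0

/-! ### real elements -/

/-- there is a real element of order `p` -/
def RealElt (p : ℕ) (G : Type*) [Group G] : Prop := ∃ g : G, orderOf g = p ∧ IsConj g g⁻¹

theorem RealElt.congr {p : ℕ} {G H : Type*} [Group G] [Group H] (e : G ≃* H) (h : RealElt p G) : RealElt p H := by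
  obtain ⟨g, h1, h2⟩ := h
  refine ⟨e g, by rw [MulEquiv.orderOf_eq, h1], ?_⟩
  rw [← map_inv]
  exact e.toMonoidHom.map_isConj h2

theorem RealElt.hasReal {p : ℕ} [Fact p.Prime] {G : Type*} [Group G] [Finite G] (h : RealElt p G) : HasReal p G := by
  obtain ⟨g, h1, h2⟩ := h
  exact H706.RealB.hasReal_of_isConj_inv (by rw [h1]) h2

theorem RealElt.of_inv {p : ℕ} [Fact p.Prime] {G : Type*} [Group G] [Finite G] {H : Subgroup G} (hp : p ∣ Nat.card H)
    (h : ∃ s : G, ∀ x ∈ H, s * x * s⁻¹ = x⁻¹) : RealElt p G := by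
  obtain ⟨s, hs⟩ := h
  obtain ⟨x, hx⟩ := exists_prime_orderOf_dvd_card' (G := H) p hp
  exact ⟨x, by rw [Subgroup.orderOf_coe, hx], isConj_iff.2 ⟨s, hs x x.2⟩⟩

/-- an abelian subgroup with constant centralisers and an element of even order modulo the centraliser is inverted -/
theorem inv_of_cent {G : Type*} [Group G] [Finite G] {H C : Subgroup G} (hab : ∀ x ∈ H, ∀ y ∈ H, x * y = y * x)
    (hC : ∀ y ∈ H, y ≠ 1 → centralizer {y} = C) (hH : H ≠ ⊥)
    (h2 : 2 * Nat.card C ∣ Nat.card (normalizer (H : Set G))) : ∃ s : G, ∀ x ∈ H, s * x * s⁻¹ = x⁻¹ := by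
  obtain ⟨⟨y₀, hy₀⟩, hy₂⟩ := Subgroup.ne_bot_iff_exists_ne_one.1 hH
  have hy₁ : y₀ ≠ 1 := fun h => hy₂ (Subtype.ext h)
  have hcomm : ∀ {c y : G}, c ∈ C → y ∈ H → c * y = y * c := by
    intro c y hc hy
    by_cases h1 : y = 1
    · rw [h1, mul_one, one_mul]
    · rw [← hC y hy h1, mem_centralizer_singleton_iff] at hc
      exact hc
  have hCN : C ≤ normalizer (H : Set G) := by
    intro c hc
    rw [Subgroup.mem_normalizer_iff]
    intro y
    constructor
    · intro hy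
      rw [hcomm hc hy, mul_inv_cancel_right]
      exact hy
    · intro hy
      have h1 := hcomm (inv_mem hc) hy
      have h2 : y = c⁻¹ * (c * y * c⁻¹) * c := by group
      rw [h2, h1, inv_mul_cancel_right]
      exact hy
  set N := normalizer (H : Set G) with hN
  have hn : (C.subgroupOf N).Normal := by
    constructor
    rintro ⟨c, hcN⟩ hc ⟨n, hnN⟩
    rw [Subgroup.mem_subgroupOf] at hc ⊢
    show n * c * n⁻¹ ∈ C
    rw [← hC y₀ hy₀ hy₁, mem_centralizer_singleton_iff]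
    have h1 : n⁻¹ * y₀ * n ∈ H := by
      have := (Subgroup.mem_normalizer_iff.1 (inv_mem hnN) y₀).1 hy₀
      rwa [inv_inv] at this
    have h2 := hcomm hc h1
    calc n * c * n⁻¹ * y₀ = n * (c * (n⁻¹ * y₀ * n)) * n⁻¹ := by group
      _ = n * ((n⁻¹ * y₀ * n) * c) * n⁻¹ := by rw [h2]
      _ = y₀ * (n * c * n⁻¹) := by group
  have hidx : 2 ∣ Nat.card (N ⧸ C.subgroupOf N) := by
    have h1 := (C.subgroupOf N).card_mul_index
    have h3 : Nat.card (C.subgroupOf N) = Nat.card C := Nat.card_congr (Subgroup.subgroupOfEquivOfLe hCN).toEquiv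
    rw [h3] at h1
    rw [← Subgroup.index_eq_card]
    obtain ⟨k, hk⟩ := h2
    refine ⟨k, ?_⟩
    have h4 : 0 < Nat.card C := Nat.card_pos
    apply Nat.eq_of_mul_eq_mul_left h4
    rw [h1, hk]
    ring
  obtain ⟨t, ht⟩ := exists_prime_orderOf_dvd_card' (G := N ⧸ C.subgroupOf N) 2 hidx
  obtain ⟨⟨s, hsN⟩, rfl⟩ := QuotientGroup.mk_surjective t
  have hs : s ∉ C := by
    intro h
    have h1 : (QuotientGroup.mk (⟨s, hsN⟩ : N) : N ⧸ C.subgroupOf N) = 1 := (QuotientGroup.eq_one_iff _).2 h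
    rw [h1, orderOf_one] at ht
    omega
  have hss : s * s ∈ C := by
    have h1 : (QuotientGroup.mk (⟨s, hsN⟩ : N) : N ⧸ C.subgroupOf N) ^ 2 = 1 := by rw [← ht]; exact pow_orderOf_eq_one _
    rw [← QuotientGroup.mk_pow, pow_two] at h1
    exact (QuotientGroup.eq_one_iff (⟨s, hsN⟩ * ⟨s, hsN⟩ : N)).1 h1
  refine ⟨s, fun x hx => ?_⟩
  have hsx : s * x * s⁻¹ ∈ H := (Subgroup.mem_normalizer_iff.1 hsN x).1 hx
  have hx2 : s * (s * x * s⁻¹) * s⁻¹ = x := by
    calc s * (s * x * s⁻¹) * s⁻¹ = (s * s * x) * (s * s)⁻¹ := by group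
      _ = x := by rw [hcomm hss hx, mul_inv_cancel_right]
  by_contra hne
  have hy : x * (s * x * s⁻¹) ≠ 1 := by
    intro h
    exact hne (eq_inv_of_mul_eq_one_right h)
  apply hs
  rw [← hC _ (mul_mem hx hsx) hy, mem_centralizer_singleton_iff]
  have h5 : s * (x * (s * x * s⁻¹)) * s⁻¹ = x * (s * x * s⁻¹) := by
    calc s * (x * (s * x * s⁻¹)) * s⁻¹ = (s * x * s⁻¹) * (s * (s * x * s⁻¹) * s⁻¹) := by group
      _ = (s * x * s⁻¹) * x := by rw [hx2]
      _ = x * (s * x * s⁻¹) := hab _ hsx _ hx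
  calc s * (x * (s * x * s⁻¹)) = s * (x * (s * x * s⁻¹)) * s⁻¹ * s := by group
    _ = x * (s * x * s⁻¹) * s := by rw [h5]

/-! ### the Suzuki groups -/

section Sz

open Cfsg.Agent.LieExceptional Cfsg.Agent.LieRecognition.SzMatrix

variable {F : Type*} [Field F] [Fintype F] {m : ℕ}

theorem sz_tori (hm : 1 ≤ m) (hF : Fintype.card F = 2 ^ (2 * m + 1)) {p : ℕ} [hp : Fact p.Prime]
    (hd : p ∣ (2 ^ (2 * m + 1)) ^ 2 + 1) : RealElt p (Cfsg.Sz F m) := by
  have hfo : Finite (Cfsg.suzukiOvoid F m) := Finite.of_equiv _ (SuzukiBasic.ovoidEquiv F m)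
  have hfin : Finite (Cfsg.Sz F m) := inferInstance
  have H := SuzukiHyp.hyp hm hF
  have hfac : (2 ^ (2 * m + 1)) ^ 2 + 1 =
      (2 ^ (2 * m + 1) + 2 ^ (m + 1) + 1) * (2 ^ (2 * m + 1) - 2 ^ (m + 1) + 1) := by
    have h1 : 2 ^ (m + 1) ≤ 2 ^ (2 * m + 1) := Nat.pow_le_pow_right (by norm_num) (by omega)
    obtain ⟨d, hd⟩ := Nat.exists_eq_add_of_le h1
    have h2 : 2 ^ (m + 1) * 2 ^ (m + 1) = 2 * 2 ^ (2 * m + 1) := by
      rw [← pow_add, ← pow_succ']; congr 1; ring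
    rw [hd, Nat.add_sub_cancel_left]
    rw [hd] at h2
    generalize 2 ^ (m + 1) = r at *
    linarith only [h2]
  obtain ⟨k, hk, hpk⟩ : ∃ k ∈ ({2 ^ (2 * m + 1) + 2 ^ (m + 1) + 1, 2 ^ (2 * m + 1) - 2 ^ (m + 1) + 1} : Set ℕ), p ∣ k := by
    rw [hfac] at hd
    rcases hp.out.dvd_mul.1 hd with h | h
    · exact ⟨_, Or.inl rfl, h⟩
    · exact ⟨_, Or.inr rfl, h⟩
  obtain ⟨g, hg, hc, hn⟩ := H.exists_tori rfl k hk
  refine RealElt.of_inv (H := centralizer {g}) (by rw [hc]; exact hpk) (inv_of_cent (H.comm_of_free hg)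
    (fun y hy hy1 => H.centralizer_eq hg hy hy1) ?_ ?_)
  · intro h
    rw [h, Subgroup.card_bot] at hc
    rw [← hc] at hpk
    exact hp.out.one_lt.ne' (Nat.dvd_one.1 hpk)
  · rw [hn, hc]
    exact Nat.mul_dvd_mul_right (by norm_num) k

theorem real_sz (hm : 1 ≤ m) (hF : Fintype.card F = 2 ^ (2 * m + 1)) {p : ℕ} [hp : Fact p.Prime] (hp2 : p ≠ 2)
    (hd : p ∣ Nat.card ↥(Cfsg.Lie.Sz F (2 ^ (m + 1)))) : RealElt p ↥(Cfsg.Lie.Sz F (2 ^ (m + 1))) := by
  obtain ⟨e⟩ := Cfsg.Agent.OddCyclic.ClaimC.SzIso.iso (F := F) hm hF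
  have hcard := Cfsg.Agent.S0324.result (F := F) hm hF
  rw [← Nat.card_congr e.toEquiv, hcard] at hd
  have hpq : ¬ p ∣ (2 ^ (2 * m + 1)) ^ 2 := by
    intro h
    exact hp2 ((Nat.prime_dvd_prime_iff_eq hp.out Nat.prime_two).1
      (hp.out.dvd_of_dvd_pow (hp.out.dvd_of_dvd_pow h)))
  by_cases h1 : p ∣ (2 ^ (2 * m + 1)) ^ 2 + 1
  · exact (sz_tori hm hF h1).congr e
  · have h2 : p ∣ 2 ^ (2 * m + 1) - 1 := by
      rcases hp.out.dvd_mul.1 hd with h | h
      · rcases hp.out.dvd_mul.1 h with h | h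
        · exact absurd h hpq
        · exact absurd h h1
      · exact h
    have H := good hF
    obtain ⟨k, hk⟩ := exists_prime_orderOf_dvd_card' (G := Fˣ) p
      (by rw [Nat.card_units, Nat.card_eq_fintype_card, hF]; exact h2)
    let f : Fˣ →* ↥(Cfsg.Lie.Sz F (2 ^ (m + 1))) :=
      { toFun := fun k => H.d k
        map_one' := H.d_one
        map_mul' := fun k l => (H.d_mul k l).symm }
    have hf : Function.Injective f := fun k l h => H.d_inj h
    refine ⟨f k, by rw [orderOf_injective f hf, hk], isConj_iff.2 ⟨H.w, ?_⟩⟩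
    show H.w * H.d k * (H.w)⁻¹ = (H.d k)⁻¹
    rw [H.w_mul_d, mul_inv_cancel_right, H.d_inv]

theorem row_sz {p : ℕ} [hp : Fact p.Prime] (hp2 : p ≠ 2) : RowFor p (fun X _ => Lie.IsoSuzuki X) := by
  intro X _ _ _ _ hd h
  obtain ⟨F, _, _, m, hm, hF, ⟨e⟩⟩ := h
  rw [Nat.card_congr e.toEquiv] at hd
  exact ((real_sz hm hF hp2 hd).congr e.symm).hasReal

end Sz

/-! ### the Ree groups -/

section Ree

open Cfsg.Agent.LieRecognition

variable {K : Type*} [Field K] [Fintype K] {m : ℕ}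

theorem centralizer_zpowers {G : Type*} [Group G] (y : G) : centralizer ((zpowers y : Subgroup G) : Set G) = centralizer {y} := by
  rw [zpowers_eq_closure, centralizer_closure]

theorem real_ree (hm : 1 ≤ m) (hK : Fintype.card K = 3 ^ (2 * m + 1)) {p : ℕ} [hp : Fact p.Prime] (hp2 : p ≠ 2)
    (hp3 : p ≠ 3) (hd : p ∣ Nat.card ↥(Cfsg.Lie.twistedG2 K (3 ^ m))) : RealElt p ↥(Cfsg.Lie.twistedG2 K (3 ^ m)) := by
  have hcard := Cfsg.Agent.S1069.result (K := K) hK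
  have hfin : Finite ↥(Cfsg.Lie.twistedG2 K (3 ^ m)) := by
    apply Nat.finite_of_card_ne_zero
    rw [Cfsg.Agent.LieRecognition.ReeFinal.card hK]
    have h1 : 0 < 3 ^ (2 * m + 1) := by positivity
    have h2 : 0 < 3 ^ (2 * m + 1) - 1 := by
      have : 3 ^ 1 ≤ 3 ^ (2 * m + 1) := Nat.pow_le_pow_right (by norm_num) (by omega)
      omega
    (clear * - h2; positivity)
  have hq27 : 27 ≤ 3 ^ (2 * m + 1) := by
    calc 27 = 3 ^ 3 := by norm_num
      _ ≤ 3 ^ (2 * m + 1) := Nat.pow_le_pow_right (by norm_num) (by omega)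
  have hq8 := (ReeClass.arith m).q8
  have key : ∀ A C : Subgroup ↥(Cfsg.Lie.twistedG2 K (3 ^ m)), IsCyclic A → p ∣ Nat.card A →
      (∀ y ∈ A, y ≠ 1 → centralizer {y} = C) →
      2 * Nat.card C ∣ Nat.card (normalizer (A : Set ↥(Cfsg.Lie.twistedG2 K (3 ^ m)))) →
      RealElt p ↥(Cfsg.Lie.twistedG2 K (3 ^ m)) := by
    intro A C hA hpA hC h2
    refine RealElt.of_inv hpA (inv_of_cent (fun x hx y hy => ?_) hC ?_ h2)
    · let _ : CommGroup A := IsCyclic.commGroup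
      exact congrArg Subtype.val (mul_comm (⟨x, hx⟩ : A) ⟨y, hy⟩)
    · rintro rfl
      rw [Subgroup.card_bot] at hpA
      exact hp.out.one_lt.ne' (Nat.dvd_one.1 hpA)
  have key2 : ∀ A : Subgroup ↥(Cfsg.Lie.twistedG2 K (3 ^ m)), IsCyclic A → p ∣ Nat.card A →
      (∀ B : Subgroup ↥(Cfsg.Lie.twistedG2 K (3 ^ m)), B ≤ A → B ≠ ⊥ →
        centralizer (B : Set ↥(Cfsg.Lie.twistedG2 K (3 ^ m))) = centralizer (A : Set ↥(Cfsg.Lie.twistedG2 K (3 ^ m)))) →
      2 * Nat.card (centralizer (A : Set ↥(Cfsg.Lie.twistedG2 K (3 ^ m)))) ∣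
        Nat.card (normalizer (A : Set ↥(Cfsg.Lie.twistedG2 K (3 ^ m)))) →
      RealElt p ↥(Cfsg.Lie.twistedG2 K (3 ^ m)) := by
    intro A hA hpA hC h2
    refine key A _ hA hpA (fun y hy hy1 => ?_) h2
    rw [← centralizer_zpowers]
    exact hC _ ((zpowers_le).2 hy) (by rw [Ne, zpowers_eq_bot]; exact hy1)
  have hS := Cfsg.Agent.S1158.result (K := K) hm hK
  have h2359 := fun A hA => Cfsg.Agent.S2359.result (K := K) hm hK A hA
  have hp1 : ∀ a : ℕ, p ∣ 2 ^ a → False := fun a h => hp2 ((Nat.prime_dvd_prime_iff_eq hp.out Nat.prime_two).1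
    (hp.out.dvd_of_dvd_pow h))
  have hpq : ¬ p ∣ (3 ^ (2 * m + 1)) ^ 3 := fun h => hp3 ((Nat.prime_dvd_prime_iff_eq hp.out Nat.prime_three).1
    (hp.out.dvd_of_dvd_pow (hp.out.dvd_of_dvd_pow h)))
  rw [hcard] at hd
  have hcase : p ∣ 3 ^ (2 * m + 1) - 1 ∨ p ∣ (3 ^ (2 * m + 1)) ^ 3 + 1 := by
    rcases hp.out.dvd_mul.1 hd with h | h
    · rcases hp.out.dvd_mul.1 h with h | h
      · exact absurd h hpq
      · exact Or.inl h
    · exact Or.inr h
  rcases hcase with h | h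
  · -- `p ∣ q - 1`
    have h1 : 3 ^ (2 * m + 1) - 1 = 2 ^ 1 * ((3 ^ (2 * m + 1) - 1) / 2) := by omega
    rw [h1] at h
    have h2 := (hp.out.dvd_mul.1 h).resolve_left (hp1 1)
    obtain ⟨A, hA, hAc, hAn, -⟩ := hS _ (Or.inl rfl)
    simp only at hAc hAn
    obtain ⟨-, h3, h4⟩ := (h2359 A hA).1 hAc
    refine key2 A hA (by rw [hAc]; exact h2) h4 ?_
    rw [h3, hAn]
  · have h1 : (3 ^ (2 * m + 1)) ^ 3 + 1 =
        (3 ^ (2 * m + 1) + 1) * ((3 ^ (2 * m + 1)) ^ 2 - 3 ^ (2 * m + 1) + 1) := by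
      obtain ⟨d, hd⟩ : ∃ d, 3 ^ (2 * m + 1) = d + 1 := ⟨3 ^ (2 * m + 1) - 1, by (clear * - hq27; omega)⟩
      rw [hd]
      have : (d + 1) ^ 2 - (d + 1) = (d + 1) * d := by
        rw [pow_two, ← Nat.mul_sub_one]; rfl
      rw [this]
      ring
    rw [h1] at h
    rcases hp.out.dvd_mul.1 h with h | h
    · -- `p ∣ q + 1`
      have h1 : 3 ^ (2 * m + 1) + 1 = 2 ^ 2 * ((3 ^ (2 * m + 1) + 1) / 4) := by omega
      rw [h1] at h
      have h2 := (hp.out.dvd_mul.1 h).resolve_left (hp1 2)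
      obtain ⟨A, hA, hAc, hAn, -⟩ := hS _ (Or.inr (Or.inl rfl))
      simp only at hAc hAn
      obtain ⟨-, h3, -, h4⟩ := (h2359 A hA).2 hAc
      refine key2 A hA (by rw [hAc]; exact h2) h4 ?_
      rw [h3, hAn]
      exact Nat.mul_dvd_mul_right (by norm_num) _
    · -- `p ∣ q ^ 2 - q + 1`
      obtain ⟨A, B, cA, cB, kA, kB, nA, nB, zA, zB, -⟩ := ReeSetup.exists_tori (ReeFinal.data hK) hm hK
        (Cfsg.Agent.S1116.result hK hm) (fun x hx hx1 => ReeTorusTw.isCyclic_centralizer hK hx hx1)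
      have hfac : (3 ^ (2 * m + 1)) ^ 2 - 3 ^ (2 * m + 1) + 1 =
          (3 ^ (2 * m + 1) - 3 ^ (m + 1) + 1) * (3 ^ (2 * m + 1) + 3 ^ (m + 1) + 1) := by
        have h1 : 3 ^ (m + 1) ≤ 3 ^ (2 * m + 1) := Nat.pow_le_pow_right (by norm_num) (by omega)
        obtain ⟨d, hd⟩ := Nat.exists_eq_add_of_le h1
        have h2 : 3 ^ (m + 1) * 3 ^ (m + 1) = 3 * 3 ^ (2 * m + 1) := by
          rw [← pow_add, ← pow_succ']; congr 1; ring
        have h3 : (3 ^ (2 * m + 1)) ^ 2 - 3 ^ (2 * m + 1) = 3 ^ (2 * m + 1) * (3 ^ (2 * m + 1) - 1) := by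
          rw [pow_two, Nat.mul_sub_one]
        rw [h3, hd, Nat.add_sub_cancel_left]
        rw [hd] at h2
        have hr : 1 ≤ 3 ^ (m + 1) := Nat.one_le_pow _ _ (by norm_num)
        generalize 3 ^ (m + 1) = r at *
        obtain ⟨s, rfl⟩ := Nat.exists_eq_add_of_le hr
        have e : 1 + s + d - 1 = s + d := by (clear * -; omega)
        rw [e]
        linarith only [h2]
      rw [hfac] at h
      rcases hp.out.dvd_mul.1 h with h | h
      · refine key A A cA (by rw [kA]; exact h) zA ?_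
        rw [nA, kA]
        exact Nat.mul_dvd_mul_right (by norm_num) _
      · refine key B B cB (by rw [kB]; exact h) zB ?_
        rw [nB, kB]
        exact Nat.mul_dvd_mul_right (by norm_num) _

theorem row_ree {p : ℕ} [hp : Fact p.Prime] (hp2 : p ≠ 2) (hp3 : p ≠ 3) : RowFor p (fun X _ => Lie.IsoRee X) := by
  intro X _ _ _ _ hd h
  obtain ⟨F, _, _, m, hm, hF, ⟨e⟩⟩ := h
  rw [Nat.card_congr e.toEquiv] at hd
  exact ((real_ree hm hF hp2 hp3 hd).congr e.symm).hasReal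

end Ree

/-! ### the groups `²F₄(q)` -/

theorem row_tf4 {p : ℕ} [hp : Fact p.Prime] (hp2 : p ≠ 2) : RowFor p (fun X _ => Lie.Iso2F4 X) := by
  intro X _ _ _ _ hd h
  obtain ⟨F, _, _, m, -, hF, ⟨e⟩⟩ := h
  have hfin : Finite ↥(Lie.twistedF4 F (2 ^ m)) := Finite.of_equiv _ e.toEquiv
  rw [Nat.card_congr e.toEquiv] at hd
  obtain ⟨x, hx⟩ := exists_prime_orderOf_dvd_card' p hd
  have h1 : RealElt p ↥(Lie.twistedF4 F (2 ^ m)) :=
    ⟨x, hx, H507.GmnTwF.isConj_inv hF x (by rw [hx]; exact hp.out.odd_of_ne_two hp2)⟩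
  exact (h1.congr e.symm).hasReal

/-! ### the Tits group -/

section Tits

open Cfsg.Agent.H921.Spor Cfsg.Agent.H921.Spor.Tits Cfsg.Agent.ChevalleyStructure.Tits.Order
  Cfsg.Agent.ChevalleyStructure.Tits.Main

/-- a product of two involutions -/
theorem real_word {p : ℕ} [hp : Fact p.Prime] (a u : List ℕ) (h1 : wd.eq (a ++ a) [] = true)
    (h2 : wd.eq (u ++ u) [] = true) (h3 : wd.eq (Wd.rep (a ++ u) p) [] = true) (h4 : wd.ne (a ++ u) = true) :
    RealElt p ↥(commutator H0) := by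
  have e1 := wd.eq_sound h1
  have e2 := wd.eq_sound h2
  have e3 := wd.eq_sound h3
  rw [wd.app, wd.nil] at e1 e2
  rw [wd.W_rep, wd.nil] at e3
  refine ⟨wd.W (a ++ u), orderOf_eq_prime e3 (wd.ne_sound h4), isConj_iff.2 ⟨wd.W a, ?_⟩⟩
  rw [wd.app, mul_inv_rev, inv_eq_of_mul_eq_one_left e1, inv_eq_of_mul_eq_one_left e2, ← mul_assoc, e1, one_mul]

theorem real_H0 {p : ℕ} (hp : p = 3 ∨ p = 5 ∨ p = 13) : RealElt p ↥(commutator H0) := by
  rcases hp with rfl | rfl | rfl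
  · have : Fact (Nat.Prime 3) := ⟨by norm_num⟩
    exact real_word [1] [0] (by decide +kernel) (by decide +kernel) (by decide +kernel) (by decide +kernel)
  · have : Fact (Nat.Prime 5) := ⟨by norm_num⟩
    exact real_word [2] [3] (by decide +kernel) (by decide +kernel) (by decide +kernel) (by decide +kernel)
  · have : Fact (Nat.Prime 13) := ⟨by norm_num⟩
    exact real_word [1] [5, 6, 5, 6, 5] (by decide +kernel) (by decide +kernel) (by decide +kernel)
      (by decide +kernel)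

theorem real_of_eq {Y : Type*} [Group Y] {K H : Subgroup Y} (hK : K = H) {p : ℕ} (h : RealElt p (commutator H))
    {X : Type*} [Group X] (e : Nonempty (X ≃* commutator K)) : RealElt p X := by
  subst hK
  obtain ⟨e⟩ := e
  exact h.congr e.symm

theorem mem_primes {p : ℕ} (hp : p.Prime) (hp2 : p ≠ 2) (hd : p ∣ 2 ^ 11 * 3 ^ 3 * 5 ^ 2 * 13) :
    p = 3 ∨ p = 5 ∨ p = 13 := by
  have h1 : ∀ q : ℕ, q.Prime → p ∣ q → p = q := fun q hq h => (Nat.prime_dvd_prime_iff_eq hp hq).1 h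
  rcases hp.dvd_mul.1 hd with h | h
  · rcases hp.dvd_mul.1 h with h | h
    · rcases hp.dvd_mul.1 h with h | h
      · exact absurd (h1 2 Nat.prime_two (hp.dvd_of_dvd_pow h)) hp2
      · exact Or.inl (h1 3 Nat.prime_three (hp.dvd_of_dvd_pow h))
    · exact Or.inr (Or.inl (h1 5 (by norm_num) (hp.dvd_of_dvd_pow h)))
  · exact Or.inr (Or.inr (h1 13 (by norm_num) h))

theorem card_of_iso {X : Type*} [Group X] (h : Lie.IsoTits X) : Nat.card X = 2 ^ 11 * 3 ^ 3 * 5 ^ 2 * 13 := by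
  obtain ⟨e⟩ := h
  exact (Nat.card_congr e.toEquiv).trans Cfsg.Agent.S1074.result.2.2.2

theorem real_of_iso {p : ℕ} [hp : Fact p.Prime] (hp2 : p ≠ 2) {X : Type*} [Group X] (hd : p ∣ Nat.card X)
    (h : Lie.IsoTits X) : RealElt p X := by
  rw [card_of_iso h] at hd
  exact real_of_eq (K := Lie.twistedF4 (ZMod 2) 1) T0_eq_H0 (real_H0 (mem_primes hp.out hp2 hd)) h

theorem row_tits {p : ℕ} [hp : Fact p.Prime] (hp2 : p ≠ 2) : RowFor p (fun X _ => Lie.IsoTits X) :=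
  fun _ _ _ _ _ hd h => (real_of_iso hp2 hd h).hasReal

end Tits

end Cfsg.Agent.H410.RealTw
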