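import Cfsg.Agent.H410.RankOne
import Cfsg.Agent.Mrg.Omega.ML.LieRow.Bld
import Cfsg.Agent.FixBN.OfBN
import Cfsg.Agent.Mrg.ParSys.Fam.TwoFFour
import Cfsg.Agent.S1068
import Cfsg.Agent.Prune
set_option linter.all false
prune_inst 0x7f00000000000000000000000000000000000000000000000000000000000000000000000000000000000000000000000000000000000000000000000000000000000000000000000000000000000000003fffffffffffffffffffffffffffbeffbdffffffff
open scoped Cfsg.Agent.FastGrp

-- part: H410/Panel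
section
/-!
# Simple groups of prime degree with a split (B,N)-pair of rank two (helper410)

* `prime_dvd_B` : the prime divisors of `|B|`;
* `card_dvd_rank_two` : `S = {s, t}`: the number `|G : B|` of chambers divides `p` or `p (1 + r ^ k)`.
-/

set_option autoImplicit false
set_option linter.unusedSectionVars false

namespace Cfsg.Agent.H410.Panel

open Cfsg Cfsg.Agent.Tits.Core Cfsg.Agent.Tits.Core.Bldg Cfsg.Agent.Tits.Exchange Cfsg.Agent.Tits
open Cfsg.Agent.FixBN Cfsg.Agent.Tits.OfBN Cfsg.Agent.Schreier.BNSch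
open Cfsg.Agent.Omega.ML.LieRow Cfsg.Agent.H410.Basic Cfsg.Agent.H410.RankOne

section Orbits

variable {I : Type*} {M : CoxeterMatrix I} {W : Type*} [Group W] {cs : CoxeterSystem M W} {C : Type*}
  {Δ : Bldg cs C} {G : Type*} [Group G] [MulAction G C] {r : ℕ} (S : Sys Δ G r) [F : OppRes.Cox cs]

include S

/-- the orbit of the chamber under an overgroup of `U c` -/
theorem orbit_eq (hth : Δ.Thick) {X : Subgroup G} {c : C} (hX : S.U c ≤ X) :
    MulAction.orbit X c = Δ.Res (tp Δ X c) c := by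
  ext y
  constructor
  · rintro ⟨g, rfl⟩
    exact delta_mem_tp S hth hX g g.2
  · intro hy
    obtain ⟨g, hg, rfl⟩ := exists_smul S hX hy
    exact ⟨⟨g, hg⟩, rfl⟩

/-- the size of a panel is `1 + r ^ k` -/
theorem card_panel [Finite G] [Finite C] [hr : Fact r.Prime] (hth : Δ.Thick) (i : I) (c : C) :
    ∃ k, Nat.card (Δ.Pan i c) = 1 + r ^ k := by
  obtain ⟨y, z, hyz, hy, hz⟩ := hth c i
  have h1 : {x | Δ.δ c x = cs.simple i} = MulAction.orbit (S.U c) y := by
    ext x
    constructor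
    · intro hx
      obtain ⟨u, hu, hux⟩ := S.exists_move (hy.trans (show Δ.δ c x = cs.simple i from hx).symm)
      exact ⟨⟨u, hu⟩, hux⟩
    · rintro ⟨u, rfl⟩
      show Δ.δ c ((u : G) • y) = cs.simple i
      rw [← hy, ← S.iso u c y, S.fix c u u.2]
  have h2 : ∃ k, Nat.card (MulAction.orbit (S.U c) y) = r ^ k := (S.isP c).card_orbit y
  obtain ⟨k, hk⟩ := h2
  refine ⟨k, ?_⟩
  have h3 : Δ.Pan i c = insert c {x | Δ.δ c x = cs.simple i} := rfl
  have h4 : c ∉ {x | Δ.δ c x = cs.simple i} := by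
    intro h5
    have h6 : Δ.δ c c = cs.simple i := h5
    rw [(Δ.eq_one c c).2 rfl] at h6
    have := cs.length_simple i
    rw [← h6, cs.length_one] at this
    exact absurd this (by decide)
  rw [h3, Nat.card_coe_set_eq, Set.ncard_insert_of_notMem h4 (Set.toFinite _), ← Nat.card_coe_set_eq, h1, hk, add_comm]

end Orbits

section BN

variable {K : Type*} [Group K] {P : Cfsg.BNPair K} {r : ℕ} {U : Subgroup K}

/-- the prime divisors of `|B|` -/
theorem prime_dvd_B [Finite K] [hr : Fact r.Prime] (S : Split P r U) {e : ℕ} (he : ∀ h ∈ P.B, h ∈ P.N → h ^ e = 1)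
    {ℓ : ℕ} (hℓ : ℓ.Prime) (hd : ℓ ∣ Nat.card P.B) : ℓ = r ∨ ℓ ∣ e := by
  have : Fact ℓ.Prime := ⟨hℓ⟩
  obtain ⟨b, hb⟩ := exists_prime_orderOf_dvd_card' ℓ hd
  have hnor : (U.subgroupOf P.B).Normal := by
    constructor
    intro u hu b
    rw [Subgroup.mem_subgroupOf] at hu ⊢
    exact S.norm b b.2 u hu
  obtain ⟨u, hu, hun⟩ := S.cover b b.2
  have h2 : u⁻¹ * (b : K) ∈ P.B := mul_mem (inv_mem (S.le hu)) b.2
  have h3 : (QuotientGroup.mk b : P.B ⧸ U.subgroupOf P.B) =
      QuotientGroup.mk (⟨u⁻¹ * (b : K), h2⟩ : P.B) := by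
    rw [QuotientGroup.eq, Subgroup.mem_subgroupOf]
    show (b : K)⁻¹ * (u⁻¹ * b) ∈ U
    have h4 := S.norm (b : K)⁻¹ (inv_mem b.2) _ (inv_mem hu)
    rw [inv_inv] at h4
    rwa [← mul_assoc]
  have h4 : (QuotientGroup.mk b : P.B ⧸ U.subgroupOf P.B) ^ e = 1 := by
    rw [h3, ← QuotientGroup.mk_pow]
    have h5 : (⟨u⁻¹ * (b : K), h2⟩ : P.B) ^ e = 1 := Subtype.ext (he _ h2 hun)
    rw [h5]
    rfl
  have h5 : (QuotientGroup.mk b : P.B ⧸ U.subgroupOf P.B) ^ ℓ = 1 := by
    rw [← QuotientGroup.mk_pow, ← hb, pow_orderOf_eq_one]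
    rfl
  have h6 := orderOf_dvd_of_pow_eq_one h5
  rcases (Nat.dvd_prime hℓ).1 h6 with h7 | h7
  · left
    rw [orderOf_eq_one_iff, QuotientGroup.eq_one_iff, Subgroup.mem_subgroupOf] at h7
    obtain ⟨k, hk⟩ := S.isP ⟨b, h7⟩
    have h8 : (b : K) ^ r ^ k = 1 := congrArg Subtype.val hk
    have h9 : orderOf (b : K) ∣ r ^ k := orderOf_dvd_of_pow_eq_one h8
    rw [Subgroup.orderOf_coe, hb] at h9
    exact (Nat.prime_dvd_prime_iff_eq hℓ hr.out).1 (hℓ.dvd_of_dvd_pow h9)
  · right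
    rw [← h7]
    exact orderOf_dvd_of_pow_eq_one h4

/-- **The number of chambers, rank two.** -/
theorem card_dvd_rank_two {Ω : Type*} [MulAction K Ω] {p : ℕ} (hyp : Hyp K Ω p) [hr : Fact r.Prime] (hne : r ≠ p)
    (S : Split P r U) {s t : K} (hS : P.S = {s, t}) :
    Nat.card (K ⧸ P.B) ∣ p ∨ ∃ k, Nat.card (K ⧸ P.B) ∣ p * (1 + r ^ k) := by
  have := hyp.fin
  have := hyp.finite
  have hs := hyp.simple
  have htr := hyp.trans
  have hN : ((P.B ⊓ P.N).subgroupOf P.N).Normal := normal_subgroupOf P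
  obtain ⟨M, cs, hcs⟩ := S0320.result P
  have hI : Finite P.S := OfBN.finite_I (Equiv.refl P.S)
  have hIn : Nonempty P.S := ⟨⟨s, by rw [hS]; exact Set.mem_insert _ _⟩⟩
  set Sy := OfBN.sys (Equiv.refl P.S) cs hcs S with hSy
  have hth := thick P (Equiv.refl P.S) cs hcs
  set c : K ⧸ P.B := QuotientGroup.mk 1 with hc
  obtain ⟨α, hα⟩ := hyp.exists_fix hne (Sy.isP c)
  have hindex := hyp.index_stabilizer α
  set H := MulAction.stabilizer K α with hH
  have htop : H ≠ ⊤ := by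
    intro h1
    rw [h1, Subgroup.index_top] at hindex
    exact hyp.prime.one_lt.ne hindex
  set J := tp (bldg P (Equiv.refl P.S) cs hcs) H c with hJ
  have hJ1 : J ≠ Set.univ := fun h1 => htop (eq_top_of_tp Sy hth hα h1)
  have horb := orbit_eq Sy hth hα
  rw [← hJ] at horb
  set O := (bldg P (Equiv.refl P.S) cs hcs).Res J c with hO
  -- the size of the orbit
  have hsize : Nat.card O = 1 ∨ ∃ k, Nat.card O = 1 + r ^ k := by
    by_cases hJ0 : J = ∅
    · left
      rw [hO, hJ0]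
      have : (bldg P (Equiv.refl P.S) cs hcs).Res ∅ c = {c} := by
        ext y
        rw [Set.mem_singleton_iff]
        constructor
        · intro hy
          have h1 : (bldg P (Equiv.refl P.S) cs hcs).δ c y ∈ WJ cs ∅ := hy
          unfold WJ at h1
          rw [Set.image_empty, Subgroup.closure_empty, Subgroup.mem_bot] at h1
          exact ((Bldg.eq_one _ _ _).1 h1).symm
        · rintro rfl
          show (bldg P (Equiv.refl P.S) cs hcs).δ c c ∈ WJ cs ∅
          rw [(Bldg.eq_one _ _ _).2 rfl]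
          exact one_mem _
      rw [this]
      simp
    · right
      obtain ⟨i, hi⟩ := Set.nonempty_iff_ne_empty.2 hJ0
      have hJi : J = {i} := by
        ext j
        rw [Set.mem_singleton_iff]
        constructor
        · intro hj
          by_contra hji
          apply hJ1
          rw [Set.eq_univ_iff_forall]
          intro k
          have hmem : ∀ x : P.S, (x : K) = s ∨ (x : K) = t := fun x => by
            have h1 : (x : K) ∈ ({s, t} : Set K) := by rw [← hS]; exact x.2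
            rwa [Set.mem_insert_iff, Set.mem_singleton_iff] at h1
          have hk := hmem k
          have hi2 := hmem i
          have hj2 := hmem j
          have hne' : (j : K) ≠ i := fun h => hji (Subtype.ext h)
          have : (k : K) = i ∨ (k : K) = j := by
            rcases hk with h1 | h1 <;> rcases hi2 with h2 | h2 <;> rcases hj2 with h3 | h3 <;>
              simp_all only [_root_.ne_eq, _root_.nonempty_subtype, _root_.Set.mem_insert_iff, _root_.Set.mem_singleton_iff, _root_.exists_or_eq_left, _root_.Subtype.forall, _root_.implies_true, _root_.not_true_eq_false, _root_.true_or, _root_.or_true]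
          rcases this with h1 | h1
          · rw [Subtype.ext h1]; exact hi
          · rw [Subtype.ext h1]; exact hj
        · rintro rfl
          exact hi
      obtain ⟨k, hk⟩ := card_panel Sy hth i c
      refine ⟨k, ?_⟩
      rw [hO, hJi, ← Pan_eq_Res]
      exact hk
  -- counting
  have hcount : Nat.card (K ⧸ P.B) ∣ p * Nat.card O := by
    have h1 : Nat.card O = (P.B.subgroupOf H).index := by
      rw [← horb, Nat.card_coe_set_eq]
      refine (MulAction.index_stabilizer (G := H) (x := c)).symm.trans ?_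
      congr 1
      ext g
      rw [MulAction.mem_stabilizer_iff, Subgroup.mem_subgroupOf]
      have : (g : K) • (QuotientGroup.mk 1 : K ⧸ P.B) = QuotientGroup.mk 1 ↔ (1 : K)⁻¹ * (g : K) * 1 ∈ P.B :=
        OfBN.smul_mk_eq
      rw [inv_one, one_mul, mul_one] at this
      exact this
    have h2 : (P.B ⊓ H).index = (P.B.subgroupOf H).index * H.index := by
      have h3 := Subgroup.relIndex_mul_index (inf_le_right : P.B ⊓ H ≤ H)
      rw [Subgroup.inf_relIndex_right] at h3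
      exact h3.symm
    rw [h1, ← hindex, mul_comm, ← h2]
    exact Subgroup.index_dvd_of_le inf_le_left
  rcases hsize with h1 | ⟨k, h1⟩
  · left
    rwa [h1, mul_one] at hcount
  · right
    exact ⟨k, by rwa [h1] at hcount⟩

end BN

end Cfsg.Agent.H410.Panel
end

-- part: H410/TwFFour
section
/-!
# Simple groups of prime degree: the groups `²F₄(q)` (helper410)
-/

set_option autoImplicit false
set_option linter.unusedSectionVars false

namespace Cfsg.Agent.H410.TwFFour

open Cfsg.Lie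
open Cfsg.Agent.ChevalleyStructure.TwF4.Tables
open Cfsg.Agent.ChevalleyStructure.TwF4.Rel
open Cfsg.Agent.ChevalleyStructure.TwF4.Groups Cfsg.Agent.ChevalleyStructure.TwF4.RankOne
open Cfsg.Agent.ChevalleyStructure.TwF4.Twisted Cfsg.Agent.ChevalleyStructure.TwF4.TwistedFix
open Cfsg.Agent.ChevalleyStructure.TwF4.BN
open Cfsg.Agent.ChevalleyStructure.TwF4.Torus (T chi T_conj_X T_inr chi_def)
open Cfsg.Agent.ChevalleyStructure.F4NTab (ca)
open Cfsg.Agent.ChevalleyStructure.TwF4.TwGen (tc tc_mul chi_tc_24 chi_tc_25 chi_tc_33 chi_tc_27 chi28 chi30 pow_all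
  n1_eq n2_eq n1_conj_T n2_conj_T)
open Cfsg.Agent.ChevalleyStructure.TwF4.TorusFix (mem_iff pow_unit T_rt rt)
open Cfsg.Agent.ChevalleyStructure.TwF4.Fix (Fix)
open Cfsg.Agent.ChevalleyStructure.TwF4.OrderCls (X_inj)
open Cfsg.Agent.Schreier.TwFFour
open Cfsg.Agent.Octagon.KSys Cfsg.Agent.Octagon.KPar Cfsg.Agent.Octagon.KRoot Cfsg.Agent.Octagon.Pkg
open Cfsg.Agent.ParSys.Fam.TwoFFour Cfsg.Agent.H410.Basic Cfsg.Agent.H410.RankOne Cfsg.Agent.H410.Panel

/-- **The split (B,N)-pair of `²F₄(q)`** (from `ParSys.Fam.TwoFFour.exists_all`), with the exponent of the torus. -/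
theorem exists_split {K : Type*} [Field K] [Fintype K] {m : ℕ} (hm : 1 ≤ m) (hK : Fintype.card K = 2 ^ (2 * m + 1)) :
    ∃ (Q : Cfsg.BNPair ↥(twistedF4 K (2 ^ m))) (UE : Subgroup ↥(twistedF4 K (2 ^ m)))
      (s t : ↥(twistedF4 K (2 ^ m))), FixBN.Split Q 2 UE ∧ Q.S = {s, t} ∧
        ∀ h ∈ Q.B, h ∈ Q.N → h ^ (2 ^ (2 * m + 1) - 1) = 1 := by
  have : CharP K 2 := charP_two hK
  have : Fact (Nat.Prime 2) := ⟨Nat.prime_two⟩
  obtain ⟨φ, hφ⟩ := exists_rln hK
  obtain ⟨P, hPB, hPN, -, hPS⟩ := Cfsg.Agent.ChevalleyStructure.TwF4.BNIrred.exists_bnPair_irreducible hφ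
  have hB : P.B = B0 K (2 ^ m) := hPB
  have hdec := dec hK hφ
  have hUp := isPGroup_U0 hK
  set s1 : ↥(twistedF4 K (2 ^ m)) := m1 K (2 ^ m) with hs1
  set s2 : ↥(twistedF4 K (2 ^ m)) := m2 hφ with hs2
  have node_1 : Cfsg.Agent.Schreier.BNSch.Node P (U0 K (2 ^ m)) s1 (V1 K (2 ^ m)) := node1 hφ hB
  have node_2 : Cfsg.Agent.Schreier.BNSch.Node P (U0 K (2 ^ m)) s2 (V8 K (2 ^ m)) := node2 hφ hB
  have hdB : ∀ b ∈ P.B, ∃ s t : Kˣ, ∃ u ∈ U0 K (2 ^ m), b = u * tt hdec s t := by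
    intro b hb
    rw [hB] at hb
    obtain ⟨s, t, u, hu, hbu⟩ := hdec.1 b hb
    exact ⟨s, t, u, hu, Subtype.ext hbu⟩
  have httB : ∀ s t : Kˣ, tt hdec s t ∈ P.B := fun s t => by rw [hB]; exact tt_B0 hdec s t
  have httN : ∀ s t : Kˣ, tt hdec s t ∈ P.N := fun s t => by
    rw [hPN]
    exact Cfsg.Agent.ChevalleyStructure.TwF4.NStruct.T_mem_N _
  have hH : ∀ h ∈ P.B, h ∈ P.N → ∃ s t : Kˣ, h = tt hdec s t := by
    intro h hh hN
    rw [hPB, Subgroup.mem_subgroupOf] at hh
    rw [hPN, Subgroup.mem_subgroupOf] at hN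
    have h1 := borel_inf_N ⟨hh, hN⟩
    obtain ⟨s, t, hst⟩ := (mem_iff hK (h : GL chevF4.Idx K)).1 ⟨h1, h.2⟩
    exact ⟨s, t, Subtype.ext hst⟩
  have hUB : U0 K (2 ^ m) ≤ P.B := by rw [hB]; exact U0_le_B0
  have hnorm : ∀ b ∈ P.B, ∀ u ∈ U0 K (2 ^ m), b * u * b⁻¹ ∈ U0 K (2 ^ m) := fun b hb u hu => by
    rw [hB] at hb
    exact conj_U0 hb hu
  have hsplit : FixBN.Split P 2 (U0 K (2 ^ m)) :=
    { le := hUB
      norm := hnorm
      isP := hUp
      cover := fun b hb => by
        obtain ⟨s, t, u, hu, rfl⟩ := hdB b hb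
        refine ⟨u, hu, ?_⟩
        rw [inv_mul_cancel_left]
        exact httN s t
      tor := ⟨2 ^ (2 * m + 1) - 1, by
        have h1 : 2 ∣ 2 ^ (2 * m + 1) := dvd_pow_self 2 (by omega)
        have h2 : 0 < 2 ^ (2 * m + 1) := by positivity
        omega, fun h hh hN => by
        obtain ⟨s, t, rfl⟩ := hH h hh hN
        apply Subtype.ext
        show T (tc (2 ^ m) s t) ^ (2 ^ (2 * m + 1) - 1) = 1
        rw [← map_pow]
        have h2 : tc (2 ^ m) s t ^ (2 ^ (2 * m + 1) - 1) = 1 := by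
          have h3 : ∀ x : Kˣ, x ^ (2 ^ (2 * m + 1) - 1) = 1 := by
            intro x
            have h4 := pow_card_eq_one' (x := x)
            rwa [Nat.card_units, Nat.card_eq_fintype_card, hK] at h4
          funext l
          rw [Pi.pow_apply, h3]; rfl
        rw [h2, map_one]⟩
      node := by
        intro s hs
        rw [hPS] at hs
        rcases hs with rfl | hs
        · exact ⟨_, node_1⟩
        · rw [Set.mem_singleton_iff] at hs
          subst hs
          exact ⟨_, node_2⟩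
      core := by
        obtain ⟨hsimp, -⟩ := Cfsg.Agent.S1072.result hm hK
        rcases hsimp.eq_bot_or_eq_top_of_normal P.B.normalCore inferInstance with h | h
        · exact h
        · exfalso
          have h1 : P.B = ⊤ := by
            rw [eq_top_iff, ← h]
            exact Subgroup.normalCore_le _
          obtain ⟨u, hu, huV⟩ := node_1.ne
          exact huV (node_1.stab u hu (by rw [h1]; exact Subgroup.mem_top _)) }
  refine ⟨P, U0 K (2 ^ m), s1, s2, hsplit, hPS, fun h hh hN => ?_⟩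
  obtain ⟨s, t, rfl⟩ := hH h hh hN
  apply Subtype.ext
  show T (tc (2 ^ m) s t) ^ (2 ^ (2 * m + 1) - 1) = 1
  rw [← map_pow]
  have h2 : tc (2 ^ m) s t ^ (2 ^ (2 * m + 1) - 1) = 1 := by
    have h3 : ∀ x : Kˣ, x ^ (2 ^ (2 * m + 1) - 1) = 1 := by
      intro x
      have h4 := pow_card_eq_one' (x := x)
      rwa [Nat.card_units, Nat.card_eq_fintype_card, hK] at h4
    funext l
    rw [Pi.pow_apply, h3]; rfl
  rw [h2, map_one]

theorem mod_three (m : ℕ) : 2 ^ (2 * m + 1) % 3 = 2 := by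
  induction m with
  | zero => norm_num
  | succ m ih =>
    have : 2 ^ (2 * (m + 1) + 1) = 2 ^ (2 * m + 1) * 4 := by ring
    rw [this]
    omega

theorem mod_five (m : ℕ) : 2 ^ (2 * m + 1) % 5 = 2 ∨ 2 ^ (2 * m + 1) % 5 = 3 := by
  induction m with
  | zero => left; norm_num
  | succ m ih =>
    have : 2 ^ (2 * (m + 1) + 1) = 2 ^ (2 * m + 1) * 4 := by ring
    rw [this]
    omega

/-- `15 ∤ 1 + 2 ^ k` -/
theorem not_both (k : ℕ) : ¬ (3 ∣ 1 + 2 ^ k ∧ 5 ∣ 1 + 2 ^ k) := by
  rintro ⟨h3, h5⟩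
  have key : ∀ j : ℕ, 2 ^ (4 * j) % 15 = 1 := by
    intro j
    induction j with
    | zero => norm_num
    | succ j ih =>
      have : 2 ^ (4 * (j + 1)) = 2 ^ (4 * j) * 16 := by ring
      rw [this]
      omega
  obtain ⟨j, i, hi, rfl⟩ : ∃ j i, i < 4 ∧ k = 4 * j + i := ⟨k / 4, k % 4, Nat.mod_lt _ (by norm_num), (Nat.div_add_mod k 4).symm⟩
  have h1 := key j
  rw [pow_add] at h3 h5
  have h4 : i = 0 ∨ i = 1 ∨ i = 2 ∨ i = 3 := by omega
  rcases h4 with rfl | rfl | rfl | rfl <;> omega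

/-- **The groups `²F₄(q)`.** -/
theorem _root_.Cfsg.Agent.H410.Basic.Hyp.not_twF4 {T Ω : Type*} [Group T] [MulAction T Ω] {p : ℕ} (hyp : Hyp T Ω p) :
    ¬ Cfsg.Lie.Iso2F4 T := by
  rintro ⟨F, _, _, m, hm, hF, ⟨e⟩⟩
  let : MulAction ↥(Cfsg.Lie.twistedF4 F (2 ^ m)) Ω := MulAction.compHom Ω e.symm.toMonoidHom
  have h' : Hyp ↥(Cfsg.Lie.twistedF4 F (2 ^ m)) Ω p := hyp.of_equiv e.symm
  have hfin := h'.fin
  have : Fact (Nat.Prime 2) := ⟨Nat.prime_two⟩
  obtain ⟨Q, U, s, t, hsplit, hS, hexp⟩ := exists_split hm hF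
  have hcard := S1068.result hF
  have h5 := hyp.five_le
  set q : ℕ := 2 ^ (2 * m + 1) with hq
  have hq3 : q % 3 = 2 := mod_three m
  have hq5 : q % 5 = 2 ∨ q % 5 = 3 := mod_five m
  have hq8 : 8 ≤ q := by
    calc 8 = 2 ^ 3 := by norm_num
      _ ≤ 2 ^ (2 * m + 1) := Nat.pow_le_pow_right two_pos (by omega)
  have hB3 : ¬ 3 ∣ Nat.card Q.B := by
    intro h1
    rcases prime_dvd_B hsplit hexp Nat.prime_three h1 with h2 | h2
    · omega
    · omega
  have hB5 : ¬ 5 ∣ Nat.card Q.B := by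
    intro h1
    rcases prime_dvd_B hsplit hexp Nat.prime_five h1 with h2 | h2
    · omega
    · (clear * - hq5 hq8 h2; omega)
  have hidx : Nat.card Q.B * Nat.card (↥(Cfsg.Lie.twistedF4 F (2 ^ m)) ⧸ Q.B) = q ^ 12 * (q - 1) * (q ^ 3 + 1) * (q ^ 4 - 1) * (q ^ 6 + 1) := by
    rw [← hcard]
    exact Subgroup.card_mul_index Q.B
  have h9 : 9 ∣ q ^ 12 * (q - 1) * (q ^ 3 + 1) * (q ^ 4 - 1) * (q ^ 6 + 1) := by
    have h1 : 9 ∣ q ^ 3 + 1 := by
      have h2 : q % 9 = 2 ∨ q % 9 = 5 ∨ q % 9 = 8 := by (clear * - hq3; omega)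
      have h3 : (q ^ 3 + 1) % 9 = 0 := by
        rcases h2 with h2 | h2 | h2 <;> rw [Nat.add_mod, Nat.pow_mod, h2]
      omega
    exact ((h1.mul_left _).mul_right _).mul_right _
  have h25 : 25 ∣ q ^ 12 * (q - 1) * (q ^ 3 + 1) * (q ^ 4 - 1) * (q ^ 6 + 1) := by
    have h1 : 5 ∣ q ^ 4 - 1 := by
      have h3 : q ^ 4 % 5 = 1 := by
        rcases hq5 with h2 | h2 <;> rw [Nat.pow_mod, h2]
      omega
    have h2 : 5 ∣ q ^ 6 + 1 := by
      have h3 : q ^ 6 % 5 = 4 := by
        rcases hq5 with h2 | h2 <;> rw [Nat.pow_mod, h2]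
      omega
    rw [mul_assoc]
    have := Nat.mul_dvd_mul h1 h2
    exact (show 25 = 5 * 5 by norm_num) ▸ this.mul_left _
  have hn : ∀ {ℓ k : ℕ}, ℓ.Prime → ¬ ℓ ∣ Nat.card Q.B → ℓ ^ k ∣ q ^ 12 * (q - 1) * (q ^ 3 + 1) * (q ^ 4 - 1) * (q ^ 6 + 1) →
      ℓ ^ k ∣ Nat.card (↥(Cfsg.Lie.twistedF4 F (2 ^ m)) ⧸ Q.B) := by
    intro ℓ k hℓ h1 h2
    rw [← hidx] at h2
    exact (Nat.Coprime.pow_left k ((Nat.Prime.coprime_iff_not_dvd hℓ).2 h1)).dvd_of_dvd_mul_left h2
  have h9' := hn (k := 2) Nat.prime_three hB3 (by exact h9)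
  have h25' := hn (k := 2) Nat.prime_five hB5 (by exact h25)
  rcases card_dvd_rank_two h' (by (clear * - h5; omega)) hsplit hS with h1 | ⟨k, h1⟩
  · have h2 := (Nat.prime_dvd_prime_iff_eq Nat.prime_three hyp.prime).1 ((dvd_pow_self 3 two_ne_zero).trans (h9'.trans h1))
    (clear * - h5 h2; omega)
  · have h3 := h9'.trans h1
    have h4 := h25'.trans h1
    apply not_both k
    constructor
    · have hp3 : Nat.Coprime (3 ^ 2) p := Nat.Coprime.pow_left 2 ((Nat.coprime_primes Nat.prime_three hyp.prime).2 (by (clear * - h5; omega)))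
      exact (dvd_pow_self 3 two_ne_zero).trans (hp3.dvd_of_dvd_mul_left h3)
    · by_cases hp5 : p = 5
      · subst hp5
        have : 5 * 5 ∣ 5 * (1 + 2 ^ k) := h4
        exact Nat.dvd_of_mul_dvd_mul_left (by norm_num) this
      · have hp5' : Nat.Coprime (5 ^ 2) p := Nat.Coprime.pow_left 2 ((Nat.coprime_primes Nat.prime_five hyp.prime).2 (Ne.symm hp5))
        exact (dvd_pow_self 5 two_ne_zero).trans (hp5'.dvd_of_dvd_mul_left h4)

end Cfsg.Agent.H410.TwFFour
end

private theorem dce_02ff2df9fc43 : _root_.True := by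
  try have : _root_.True := by simp only [_root_.Cfsg.Agent.FixBN.OfBN.sys.congr_simp]
  try have : _root_.True := by simp only [_root_.Cfsg.Agent.Tits.OfBN.bldg.congr_simp]
  exact _root_.True.intro
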