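import Cfsg.Agent.H730.PairRow
import Cfsg.Agent.H714.AltMore
import Cfsg.Agent.H410.GRowAbs
import Cfsg.Agent.H716.RankOnePrime
import Cfsg.Agent.H705.ComPSU_m3
import Cfsg.Agent.H714.AltFull
import Cfsg.Agent.S0253
import Cfsg.Agent.Prune
set_option linter.all false
prune_inst 0x7f00000000000000000000000000000000000000000000000000000000000000000000000000000000000000000000000000000000000000000000000000000000000000000000000000000000000000003fffffffffffffffffffffffffffbeffbdffffffff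
open scoped Cfsg.Agent.FastGrp

-- part: H730/Alt
section
/-!
# The alternating rows of `RowP` (helper730)
-/

set_option autoImplicit false

open Cfsg Equiv Equiv.Perm Cfsg.Agent.H713 Subgroup
open scoped Nat

namespace Cfsg.Agent.H730

theorem card_centralizer_alt_dvd {n : ℕ} (x : ↥(alternatingGroup (Fin n))) :
    Nat.card (centralizer ({x} : Set ↥(alternatingGroup (Fin n)))) ∣
      Nat.card (centralizer ({(x : Perm (Fin n))} : Set (Perm (Fin n)))) := by
  refine card_dvd_of_injective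
    (((alternatingGroup (Fin n)).subtype.comp (centralizer ({x} : Set _)).subtype).codRestrict
      (centralizer ({(x : Perm (Fin n))} : Set (Perm (Fin n)))) fun g => ?_) ?_
  · have := mem_centralizer_singleton_iff.1 g.2
    rw [mem_centralizer_singleton_iff]
    exact congrArg Subtype.val this
  · intro a b hab
    have := congrArg Subtype.val hab
    exact Subtype.ext (Subtype.ext this)

theorem dvd_card_alt_of_odd {n : ℕ} (hn : 7 ≤ n) {d : ℕ} (hd : Nat.Coprime d 2) (h : d ∣ n !) :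
    d ∣ Nat.card ↥(alternatingGroup (Fin n)) := by
  have : Nontrivial (Fin n) := Fin.nontrivial_iff_two_le.2 (by omega)
  have h1 := two_mul_nat_card_alternatingGroup (α := Fin n)
  rw [Nat.card_perm, Nat.card_fin] at h1
  exact hd.dvd_of_dvd_mul_left (h1 ▸ h)

theorem mul_dvd_factorial {n p c : ℕ} (hpc : p < c) (hc : c ≤ n) (hp : 0 < p) : p * c ∣ n ! := by
  refine dvd_trans ?_ (Nat.factorial_dvd_factorial hc)
  obtain ⟨d, rfl⟩ : ∃ d, c = d + 1 := ⟨c - 1, by omega⟩
  rw [Nat.factorial_succ, mul_comm]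
  exact Nat.mul_dvd_mul_left _ (Nat.dvd_factorial hp (by omega))

/-- `p ^ (v + 1)` divides `n !` when `v` is the exponent of `p` in `c`. -/
theorem pow_succ_dvd_factorial {n p c : ℕ} (hp : p.Prime) (hpc : p < c) (hc : c ≤ n) :
    p ^ (c.factorization p + 1) ∣ n ! := by
  refine dvd_trans ?_ (mul_dvd_factorial hpc hc hp.pos)
  rw [pow_succ, mul_comm]
  exact Nat.mul_dvd_mul_left _ (Nat.ordProj_dvd c p)

end Cfsg.Agent.H730
end

-- part: H410/GRowPSL
section
/-!
# The rows of the groups `PSL₂(q)` (helper410)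

`rrow_psl`, `grow_psl` : for `q ≥ 4` a power of `r`, `RRow r (PSL₂(q))` and `GRow (PSL₂(q))`.
-/

set_option autoImplicit false
set_option linter.unusedSimpArgs false

namespace Cfsg.Agent.H410.GRowPSL

open Cfsg Subgroup Cfsg.Agent.H410.GRowAbs Cfsg.Agent.H748.RoPSL
open Cfsg.Agent.H705.PSL (pr mem_two_iff two_mem tor_eq_one card_unipP unipP_ne exists_sylP dataP)
open Cfsg.Agent.H255.RankOne (two mem_two)
open Cfsg.Agent.H713 (VZ VZ.mulEquiv)
open Cfsg.Agent.H730.Pair

local notation "SL2" => Matrix.SpecialLinearGroup (Fin 2)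
local notation "PSL2" => Matrix.ProjectiveSpecialLinearGroup (Fin 2)

section

variable {F : Type*} [Field F]

theorem w_conj (a : Fˣ) : (pr F wl)⁻¹ * pr F (dg a) * pr F wl = (pr F (dg a))⁻¹ := by
  rw [← map_inv, ← map_mul, ← map_mul, ← map_inv]
  congr 1
  apply ext2
  · simp only [mul00, mul01, mul10, mul11, inv00, inv01, inv10, inv11, dg00, dg01, dg10, dg11, wl00, wl01, wl10, wl11]
    ring
  · simp only [mul00, mul01, mul10, mul11, inv00, inv01, inv10, inv11, dg00, dg01, dg10, dg11, wl00, wl01, wl10, wl11]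
    ring
  · simp only [mul00, mul01, mul10, mul11, inv00, inv01, inv10, inv11, dg00, dg01, dg10, dg11, wl00, wl01, wl10, wl11]
    ring
  · simp only [mul00, mul01, mul10, mul11, inv00, inv01, inv10, inv11, dg00, dg01, dg10, dg11, wl00, wl01, wl10, wl11]
    ring

theorem tor (F : Type*) [Field F] : Tor ((borel F).map (pr F)) ((unip F).map (pr F)) (pr F wl) where
  data := dataP F
  ab := by
    rintro a ⟨ha, ha'⟩ b ⟨hb, hb'⟩
    obtain ⟨k, rfl⟩ := mem_two_iff ha ha'
    obtain ⟨l, rfl⟩ := mem_two_iff hb hb'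
    show H705.PSL.tor F k * H705.PSL.tor F l = H705.PSL.tor F l * H705.PSL.tor F k
    rw [← map_mul, ← map_mul, mul_comm]
  inv := by
    rintro a ⟨ha, ha'⟩
    obtain ⟨k, rfl⟩ := mem_two_iff ha ha'
    exact w_conj k
  reg := by
    rintro t ⟨ht, htw⟩ ht1 u hu hfix
    obtain ⟨k, rfl⟩ := mem_two_iff ht htw
    refine H705.PSL.regular (fun h => ht1 (by rw [h, one_mul])) hu ?_
    rw [hfix, mul_inv_cancel_right]

theorem ww : pr F wl * pr F wl = 1 := by
  rw [← map_mul, H705.PSL.pr_eq_one]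
  simp only [mul00, mul01, mul10, mul11, wl00, wl01, wl10, wl11]
  refine ⟨by ring, by ring, by ring⟩

theorem two_eq : two ((borel F).map (pr F)) (pr F wl) = (H705.PSL.tor F).range := by
  ext t
  constructor
  · rintro ⟨h1, h2⟩
    obtain ⟨a, rfl⟩ := mem_two_iff h1 h2
    exact ⟨a, rfl⟩
  · rintro ⟨a, rfl⟩
    exact two_mem a

variable [Fintype F]

theorem card_two_mul : ∃ k, Nat.card (two ((borel F).map (pr F)) (pr F wl)) * k = Fintype.card F - 1 ∧
    (Odd (Fintype.card F) → 2 ∣ k) := by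
  classical
  refine ⟨Nat.card (H705.PSL.tor F).ker, ?_, fun h => ?_⟩
  · rw [two_eq, ← Subgroup.index_ker, mul_comm, Subgroup.card_mul_index, Nat.card_units, Nat.card_eq_fintype_card]
  · have h2 : ringChar F ≠ 2 := by
      intro h3
      have h4 := FiniteField.even_card_of_char_two h3
      rw [Nat.odd_iff] at h
      omega
    have h1 : (-1 : Fˣ) ∈ (H705.PSL.tor F).ker := by
      rw [MonoidHom.mem_ker, tor_eq_one, neg_one_sq]
    have h3 : orderOf (-1 : Fˣ) = 2 := by
      rw [orderOf_eq_prime_iff]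
      refine ⟨neg_one_sq, fun h4 => Ring.neg_one_ne_one_of_char_ne_two h2 ?_⟩
      have := congrArg Units.val h4
      simpa using this
    have h4 := _root_.orderOf_dvd_natCard (⟨-1, h1⟩ : (H705.PSL.tor F).ker)
    rwa [Subgroup.orderOf_mk, h3] at h4

theorem card_two_dvd : Nat.card (two ((borel F).map (pr F)) (pr F wl)) ∣ Fintype.card F - 1 := by
  obtain ⟨k, hk, -⟩ := card_two_mul (F := F)
  exact ⟨k, hk.symm⟩

theorem exists_l (h4 : 4 ≤ Fintype.card F) : ∃ l : ℕ, l.Prime ∧ l ∣ Fintype.card F + 1 ∧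
    ¬ l ∣ Nat.card (two ((borel F).map (pr F)) (pr F wl)) := by
  obtain ⟨k, hk, hk2⟩ := card_two_mul (F := F)
  set q := Fintype.card F with hq
  set t := Nat.card (two ((borel F).map (pr F)) (pr F wl)) with ht
  have hbig : ∀ l : ℕ, l.Prime → l ∣ q + 1 → l ≠ 2 → ¬ l ∣ t := by
    intro l hl h1 h2 h3
    have h5 : l ∣ q - 1 := h3.trans ⟨k, hk.symm⟩
    have h6 : l ∣ (q + 1) - (q - 1) := Nat.dvd_sub h1 h5
    have h7 : (q + 1) - (q - 1) = 2 := by omega
    rw [h7] at h6
    exact h2 ((Nat.prime_dvd_prime_iff_eq hl Nat.prime_two).1 h6)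
  rcases Nat.even_or_odd q with h | h
  · obtain ⟨l, hl, hlq⟩ := Nat.exists_prime_and_dvd (n := q + 1) (by omega)
    refine ⟨l, hl, hlq, hbig l hl hlq ?_⟩
    rintro rfl
    obtain ⟨c, hc⟩ := h
    omega
  · obtain ⟨j, hj⟩ := hk2 h
    obtain ⟨c, hc⟩ := h
    have h1 : t * j = c := by
      have : t * (2 * j) = 2 * c := by rw [← hj, hk]; omega
      linarith only [this]
    rcases Nat.even_or_odd c with h5 | h5
    · -- `q = 1` modulo `4`
      obtain ⟨d, hd⟩ := h5
      obtain ⟨l, hl, hlq⟩ := Nat.exists_prime_and_dvd (n := c + 1) (by omega)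
      have h6 : l ∣ q + 1 := by
        have : q + 1 = (c + 1) * 2 := by omega
        rw [this]
        exact Dvd.dvd.mul_right hlq _
      refine ⟨l, hl, h6, hbig l hl h6 ?_⟩
      rintro rfl
      omega
    · refine ⟨2, Nat.prime_two, by omega, fun h6 => ?_⟩
      have h7 : 2 ∣ c := by
        rw [← h1]
        exact Dvd.dvd.mul_right h6 _
      obtain ⟨d, hd⟩ := h5
      omega

/-- the elements of order divisible by `l` are `VZ` -/
theorem vz_psl (h4 : 4 ≤ Fintype.card F) (h5 : Fintype.card F ≠ 5) {l : ℕ} (hl : l.Prime)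
    (hlq : l ∣ Fintype.card F + 1) (hlt : ¬ l ∣ Nat.card (two ((borel F).map (pr F)) (pr F wl))) {x : PSL2 F}
    (hx : l ∣ orderOf x) : VZ (PSL2 F) x := by
  have : Fact l.Prime := ⟨hl⟩
  obtain ⟨χ, hχ, h1⟩ := Cfsg.Agent.H690.LTwo.exists_irr_psl (F := F) h4 h5
  have P : Sylow l (PSL2 F) := default
  refine Cfsg.Agent.H690.Reduce.vz_of_degree hχ h1 P ?_ hx
  have h3 : Nat.card P ∣ Nat.card (PSL2 F) := Subgroup.card_subgroup_dvd_card _
  rw [(tor F).card_group, card_unipP, Nat.card_eq_fintype_card (α := F)] at h3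
  obtain ⟨k, hk⟩ := (IsPGroup.iff_card).1 P.2
  rw [hk] at h3 ⊢
  have h6 := (Nat.Coprime.pow_left k ((Nat.Prime.coprime_iff_not_dvd hl).2 hlt)).dvd_of_dvd_mul_left h3
  refine (Nat.Coprime.pow_left k ((Nat.Prime.coprime_iff_not_dvd hl).2 ?_)).dvd_of_dvd_mul_left h6
  intro h7
  have h8 := (Nat.dvd_add_right h7).1 hlq
  exact hl.one_lt.ne' (Nat.dvd_one.1 h8)

/-- the rows for given `l` -/
theorem rows_of_l {r : ℕ} [hr : Fact r.Prime] [CharP F r] (h4 : 4 ≤ Fintype.card F) (h5 : Fintype.card F ≠ 5) {l : ℕ}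
    (hl : l.Prime) (hlq : l ∣ Fintype.card F + 1)
    (hlt : ¬ l ∣ Nat.card (two ((borel F).map (pr F)) (pr F wl))) {x : PSL2 F} (hx : l ∣ orderOf x) {k₀ : Fˣ}
    (hk₀ : ∀ a, a ∈ zpowers k₀) :
    RRow r (PSL2 F) ∧ ((HasCop (PSL2 F) → Gen (PSL2 F) (H705.PSL.tor F k₀) ∧ Gen (PSL2 F) x) → GRow (PSL2 F)) := by
  have hk₀o : orderOf k₀ = Fintype.card F - 1 := by
    rw [orderOf_eq_card_of_forall_mem_zpowers hk₀, Nat.card_units, Nat.card_eq_fintype_card]
  refine rows (r := r) (tor F) ww unipP_ne exists_sylP ?_ (y := H705.PSL.tor F k₀) (two_mem k₀) ?_ (l := l) ?_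
    (x := x) hx (vz_psl h4 h5 hl hlq hlt hx)
  · rw [card_unipP, Nat.card_eq_fintype_card (α := F)]
    exact (Nat.le_of_dvd (by omega) card_two_dvd).trans (Nat.sub_le _ _)
  · intro h
    rw [← map_mul, tor_eq_one, ← pow_two, ← pow_mul] at h
    have h1 := orderOf_dvd_of_pow_eq_one h
    rw [hk₀o] at h1
    have h2 := Nat.le_of_dvd (by norm_num) h1
    have h3 : Fintype.card F = 4 ∨ Fintype.card F = 5 := by omega
    rcases h3 with h3 | h3
    · rw [h3] at h1
      omega
    · exact h5 h3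
  · rw [H255.RankTools.card_borel (tor F).data, card_unipP, Nat.card_eq_fintype_card (α := F)]
    intro h
    rcases hl.dvd_mul.1 h with h | h
    · have h8 := (Nat.dvd_add_right h).1 hlq
      exact hl.one_lt.ne' (Nat.dvd_one.1 h8)
    · exact hlt h

theorem l_dvd {l : ℕ} (hlq : l ∣ Fintype.card F + 1) : l ∣ Nat.card (PSL2 F) := by
  rw [(tor F).card_group, card_unipP, Nat.card_eq_fintype_card (α := F)]
  exact Dvd.dvd.mul_left (Dvd.dvd.mul_left hlq _) _

/-- not commutative -/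
theorem not_comm (h4 : 4 ≤ Fintype.card F) : ¬ IsMulCommutative (PSL2 F) := by
  intro hc
  obtain ⟨a, ha⟩ := Cfsg.Agent.H716.RankOneChar.exists_sq_ne (F := F) (by rwa [Nat.card_eq_fintype_card])
  have h1 : pr F (dg a) * pr F (up 1) = pr F (up 1) * pr F (dg a) := hc.is_comm.comm _ _
  have h2 : pr F (up ((a : F) * a * 1)) = pr F (up 1) := by
    have h3 := conj_up (dg_mem_two a).1 (1 : F)
    rw [dg00] at h3
    rw [← h3, map_mul, map_mul, map_inv, h1, mul_inv_cancel_right]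
  have h3 := H705.PSL.pr_up_inj h2
  rw [mul_one] at h3
  exact ha (Units.ext (by rw [Units.val_mul, h3, Units.val_one]))

/-- the order is even -/
theorem two_dvd : 2 ∣ Nat.card (PSL2 F) := by
  rw [(tor F).card_group]
  exact Dvd.dvd.mul_left (Nat.even_mul_succ_self _).two_dvd _

end

section gen

variable {F : Type*} [Field F] [Fintype F]

open Cfsg.Agent.H716.RankOneRow Cfsg.Agent.H716.RankOnePSL
open Cfsg.Agent.H716.CopRow (Fx)
open Cfsg.Agent.ClassicalGeometry.AutPSL.Auto (lift fld lift_pr coe_fld_apply)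

theorem simple (h4 : 4 ≤ Fintype.card F) : IsSimpleGroup (PSL2 F) :=
  Matrix.ProjectiveSpecialLinearGroup.rank_two_simple (by rwa [Nat.card_eq_fintype_card])

/-- **A prime not dividing the number of fixed points of the coprime automorphisms.** -/
theorem cop (h4 : 4 ≤ Fintype.card F) (hc : HasCop (PSL2 F)) : Fintype.card F ≠ 5 ∧
    ∃ l : ℕ, l.Prime ∧ l ∣ Fintype.card F + 1 ∧ ¬ l ∣ Fintype.card F - 1 ∧
      ∀ p : ℕ, p.Prime → ¬ p ∣ Nat.card (PSL2 F) → ∀ β : MulAut (PSL2 F), orderOf β = p → ¬ l ∣ Nat.card (Fx β) := by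
  have hfin : Finite (PSL2 F) := inferInstance
  have hs := simple h4
  obtain ⟨ρ, hρ, -⟩ := Cfsg.Agent.H254.exists_ringAut F
  have hC := Cfsg.Agent.H254.PSL.copIn (F := F) (n := 2) le_rfl (fun _ => h4) (not_comm h4) two_dvd ρ hρ
  obtain ⟨p, hp, hpK, α, hα⟩ := hc
  have : Fact p.Prime := ⟨hp⟩
  have hne2 : ∀ p : ℕ, ¬ p ∣ Nat.card (PSL2 F) → p ≠ 2 := by
    rintro p h rfl
    exact h two_dvd
  obtain ⟨r, hr⟩ := CharP.exists F
  obtain ⟨a, hrp, hF⟩ := FiniteField.card F r
  have hF' : Nat.card F = r ^ (a : ℕ) := by rw [Nat.card_eq_fintype_card, hF]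
  have hcard := Cfsg.Agent.ClassicalGeometry.PSL2Basic.card_PSL2_gcd (F := F)
  -- `p ∣ a`
  have hpa : p ∣ a := by
    obtain ⟨E, hE, -⟩ := dvd_of_copIn hC hp (hne2 p hpK) hpK hα
    rw [hF'] at hE
    obtain ⟨b, hb⟩ : ∃ b, Nat.card E = r ^ b := by
      have h1 : Nat.card E ∣ r ^ (a : ℕ) := by rw [hE]; exact dvd_pow_self _ hp.ne_zero
      obtain ⟨b, -, hb⟩ := (Nat.dvd_prime_pow hrp).1 h1
      exact ⟨b, hb⟩
    rw [hb, ← pow_mul] at hE
    exact ⟨b, by rw [Nat.pow_right_injective hrp.two_le hE, mul_comm]⟩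
  have ha3 : 3 ≤ (a : ℕ) := by
    have h1 := Nat.le_of_dvd a.pos hpa
    have h2 := hp.two_le
    have : 3 ≤ p := by
      rcases h2.eq_or_lt with h | h
      · exact absurd h.symm (hne2 p hpK)
      · exact h
    omega
  obtain ⟨l, hl, hlm, hlr, hl2, hlq, hld⟩ := exists_zsig (r := r) (a := a) (k := 1) hrp (by omega)
    (by omega) (by omega) (by
      rintro ⟨h5, h6⟩
      apply hpK
      rw [one_mul] at h6
      rw [h6] at hpa
      have hp3 : p = 3 := (Nat.prime_dvd_prime_iff_eq hp Nat.prime_three).1 hpa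
      rw [hF, h5, h6, hp3.symm] at hcard
      norm_num [hp3] at hcard
      rw [hp3]
      omega)
  refine ⟨?_, l, hl, ?_, by rw [hF]; exact hlq, ?_⟩
  · rw [hF]
    intro h5
    have h6 : r ^ 3 ≤ r ^ (a : ℕ) := Nat.pow_le_pow_right hrp.pos ha3
    have h7 : 2 ^ 3 ≤ r ^ 3 := Nat.pow_le_pow_left hrp.two_le 3
    omega
  · rw [pow_one] at hld
    rw [hF]
    exact hld
  · intro t ht htK β hβ hd
    have : Fact t.Prime := ⟨ht⟩
    obtain ⟨E, hE, h1⟩ := dvd_of_copIn hC ht (hne2 t htK) htK hβ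
    rw [hF'] at hE
    refine not_dvd_of_zsig (ι := Fin 2) hl hrp hlm hlr hE ht ?_ (h1 l hl hd)
    rw [Fintype.card_fin]
    have := ht.two_le
    nlinarith only [ha3, this]

theorem gen_tor (h4 : 4 ≤ Fintype.card F) {k₀ : Fˣ} (hk₀ : ∀ a, a ∈ zpowers k₀) :
    Gen (PSL2 F) (H705.PSL.tor F k₀) := by
  have hfin : Finite (PSL2 F) := inferInstance
  have hs := simple h4
  obtain ⟨ρ, hρ, -⟩ := Cfsg.Agent.H254.exists_ringAut F
  have hC := Cfsg.Agent.H254.PSL.copIn (F := F) (n := 2) le_rfl (fun _ => h4) (not_comm h4) two_dvd ρ hρ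
  refine Gen.of_hom (K := PSL2 F) ((lift (ι := Fin 2) (F := F)).comp (fld (ι := Fin 2) (F := F)))
    (ConjIn.of_copIn hC ⟨ρ, rfl⟩) (H705.PSL.tor F) ?_ (c := 2) two_pos (fun u hu => tor_eq_one.1 hu) ?_ hk₀
  · intro τ u
    show lift (fld τ) (Cfsg.Agent.ClassicalGeometry.AutPSL.Root.pr (dg u)) = pr F (dg (Units.map (τ : F →* F) u))
    rw [lift_pr]
    have h1 : fld τ (dg u) = dg (Units.map (τ : F →* F) u) := by
      apply ext2
      · show τ ((dg u).1 0 0) = _
        rw [dg00, dg00]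
        rfl
      · show τ ((dg u).1 0 1) = _
        rw [dg01, dg01, map_zero]
      · show τ ((dg u).1 1 0) = _
        rw [dg10, dg10, map_zero]
      · show τ ((dg u).1 1 1) = _
        rw [dg11, dg11, ← map_inv]
        rfl
    rw [h1]
    rfl
  · intro p hp h2
    have := hp.two_le
    obtain rfl : p = 2 := by omega
    exact two_dvd

end gen

section five

/-- the alternating group of degree five -/
theorem rrow_five : RRow 5 ↥(alternatingGroup (Fin 5)) := by
  classical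
  have hcard : Nat.card ↥(alternatingGroup (Fin 5)) = 60 := by
    rw [nat_card_alternatingGroup, Nat.card_eq_fintype_card, Fintype.card_fin]
    rfl
  have key : ∀ (m : Multiset ℕ) (d : ℕ), m.sum ≤ 5 → (∀ a ∈ m, 2 ≤ a) → Even (m.sum + Multiset.card m) → m ≠ 0 →
      (5 - m.sum).factorial * m.prod * ∏ a ∈ m.toFinset, (m.count a).factorial = d →
      ∃ x : ↥(alternatingGroup (Fin 5)), VZ _ x ∧
        ∀ p : ℕ, p.Prime → ∀ k : ℕ, p ^ k ∣ 60 → ¬ p ^ k ∣ d → p ∣ (centralizer ({x} : Set _)).index := by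
    intro m d hm h2 he h0 hd
    obtain ⟨g, hg⟩ := (Equiv.Perm.exists_with_cycleType_iff (Fin 5) (m := m)).2 ⟨by rwa [Fintype.card_fin], h2⟩
    have hga : g ∈ alternatingGroup (Fin 5) := by
      rw [Equiv.Perm.mem_alternatingGroup, Equiv.Perm.sign_of_cycleType, hg]
      exact he.neg_one_pow
    refine ⟨⟨g, hga⟩, H714.AltFull.vz_five (fun h => h0 ?_), ?_⟩
    · have h1 : g = 1 := congrArg Subtype.val h
      rw [← hg, h1, Equiv.Perm.cycleType_one]
    · intro p hp k h1 h3
      refine H730.Pair.dvd_index_of_not_dvd hp (k := k) (by rwa [hcard]) fun h4 => h3 ?_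
      have h5 := h4.trans (H730.card_centralizer_alt_dvd ⟨g, hga⟩)
      rw [Equiv.Perm.nat_card_centralizer] at h5
      rw [← hd]
      have h6 : g.cycleType = m := hg
      simp only [h6, Fintype.card_fin] at h5
      exact h5
  obtain ⟨x, hx, hxd⟩ := key {3} 6 (by simp) (by simp) (by decide) (by simp) (by decide)
  obtain ⟨y, hy, hyd⟩ := key {2, 2} 8 (by simp) (by simp) (by decide) (by simp) (by decide)
  intro p hp hpd
  rw [hcard] at hpd
  by_cases h3 : p = 3
  · subst h3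
    exact ⟨y, hy, hyd 5 (by norm_num) 1 (by norm_num) (by norm_num), hyd 3 (by norm_num) 1 (by norm_num) (by norm_num)⟩
  · refine ⟨x, hx, hxd 5 (by norm_num) 1 (by norm_num) (by norm_num), ?_⟩
    have h60 : (60 : ℕ) = 2 ^ 2 * 3 * 5 := by norm_num
    rw [h60] at hpd
    rcases (hp.dvd_mul.1 hpd) with h | h
    · rcases hp.dvd_mul.1 h with h | h
      · have h2 := (Nat.prime_dvd_prime_iff_eq hp Nat.prime_two).1 (hp.dvd_of_dvd_pow h)
        subst h2
        exact hxd 2 (by norm_num) 2 (by norm_num) (by norm_num)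
      · exact absurd ((Nat.prime_dvd_prime_iff_eq hp Nat.prime_three).1 h) h3
    · have h2 := (Nat.prime_dvd_prime_iff_eq hp Nat.prime_five).1 h
      subst h2
      exact hxd 5 (by norm_num) 1 (by norm_num) (by norm_num)

end five

section final

variable {F : Type*} [Field F] [Fintype F]

/-- **`PSL₂(q)`, pairs of primes with the characteristic.** -/
theorem rrow_psl (r : ℕ) [hr : Fact r.Prime] [CharP F r] (h4 : 4 ≤ Fintype.card F) : RRow r (PSL2 F) := by
  by_cases h5 : Fintype.card F = 5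
  · have h6 : r = 5 := by
      obtain ⟨n, hrp, hn⟩ := FiniteField.card F r
      rw [h5] at hn
      have h7 : r ∣ 5 := by rw [hn]; exact dvd_pow_self r n.ne_zero
      exact (Nat.prime_dvd_prime_iff_eq hrp Nat.prime_five).1 h7
    subst h6
    obtain ⟨e⟩ := Cfsg.Agent.S0253.result h5
    exact rrow_five.mulEquiv e.symm
  · obtain ⟨l, hl, hlq, hlt⟩ := exists_l h4
    have : Fact l.Prime := ⟨hl⟩
    obtain ⟨x, hx⟩ := exists_prime_orderOf_dvd_card' l (l_dvd hlq)
    obtain ⟨k₀, hk₀⟩ := IsCyclic.exists_generator (α := Fˣ)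
    exact (rows_of_l (r := r) h4 h5 hl hlq hlt (x := x) (by rw [hx]) hk₀).1

/-- **`PSL₂(q)`, generic `VZ` elements.** -/
theorem grow_psl (h4 : 4 ≤ Fintype.card F) : GRow (PSL2 F) := by
  intro hc
  obtain ⟨h5, l, hl, hlq, hlq1, hfx⟩ := cop h4 hc
  obtain ⟨r, hr⟩ := CharP.exists F
  have hrp : Fact r.Prime := ⟨(FiniteField.card F r).choose_spec.1⟩
  have : Fact l.Prime := ⟨hl⟩
  obtain ⟨x, hx⟩ := exists_prime_orderOf_dvd_card' l (l_dvd hlq)
  obtain ⟨k₀, hk₀⟩ := IsCyclic.exists_generator (α := Fˣ)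
  exact (rows_of_l (r := r) h4 h5 hl hlq (fun h => hlq1 (h.trans card_two_dvd)) (x := x) (by rw [hx]) hk₀).2
    (fun _ => ⟨gen_tor h4 hk₀, gen_of_prime (by rw [hx]) hfx⟩) hc

end final

end Cfsg.Agent.H410.GRowPSL
end
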